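import Groth.Agent.H61.FieldCoh.BrauerInd

/-!
# Surjective norms and vanishing `H¹` give vanishing of all positive degree cohomology of a field

For a sheaf `G` on the small étale site of a field `K`: if `H¹(E, G) = 0` for all finite separable
`E/K` and the norms of cyclic prime degree extensions are surjective on sections, then
`Hⁱ(K, G) = 0` for all `i ≥ 1`.
-/

set_option autoImplicit false
set_option linter.style.haveILetI false

universe u

open CategoryTheory CategoryTheory.Limits CategoryTheory.Abelian AlgebraicGeometry Opposite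

namespace Groth.Agent.Lib.HensGm50

open Groth.Agent.Lib.EtJ Groth.Agent.H61.FieldCoh

variable {K : Type u} [Field K]

/-- `H¹` vanishes on all finite separable extensions. -/
def H1Good (G : EtCoh.Ab (S K)) : Prop :=
  ∀ (E : Type u) [Field E] [Algebra K E] [Algebra.Etale K E], FiniteDimensional K E →
    Subsingleton (EtCoh.H (S E) ((EtShriek.restrAlong (jF K E)).obj G) 1)

/-- Norms are surjective on sections in cyclic extensions of prime degree. -/
def NormGood (G : EtCoh.Ab (S K)) : Prop :=
  ∀ (E M : Type u) [Field E] [Algebra K E] [Algebra.Etale K E] [Field M] [Algebra K M] [Algebra.Etale K M]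
    [Algebra E M] [IsScalarTower K E M] [FiniteDimensional K E] [FiniteDimensional E M] [IsGalois E M],
    (Module.finrank E M).Prime → ∀ s : EtCoh.sect G (O K E), ∃ t : EtCoh.sect G (O K M),
      ∑ τ : M ≃ₐ[E] M, G.obj.map (homO (τ.toAlgHom.restrictScalars K)).op t =
        G.obj.map (homO (IsScalarTower.toAlgHom K E M)).op s

theorem isIso_of_left {X : Scheme.{u}} {U V : X.Etale} (a : U ⟶ V) [IsIso a.left] : IsIso a := by
  refine ⟨MorphismProperty.Over.homMk (inv a.left) ?_, ?_, ?_⟩
  · rw [IsIso.inv_comp_eq]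
    exact (MorphismProperty.Over.w a).symm
  · exact MorphismProperty.Over.Hom.ext (IsIso.hom_inv_id a.left)
  · exact MorphismProperty.Over.Hom.ext (IsIso.inv_hom_id a.left)

/-- The comparison of the two ways of viewing an object over `E'` over `K`. -/
noncomputable def compHom {E : Type u} [Field E] [Algebra K E] [Algebra.Etale K E] (E' : Type u) [Field E']
    [Algebra K E'] [Algebra.Etale K E'] [Algebra E E'] [IsScalarTower K E E'] [Algebra.Etale E E']
    (V : (S E').Etale) :
    (EtShriek.compEtale (jF K E')).obj V ⟶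
      (EtShriek.compEtale (jF K E)).obj ((EtShriek.compEtale (jF E E')).obj V) :=
  MorphismProperty.Over.homMk (𝟙 V.left)
    (show 𝟙 V.left ≫ (V.hom ≫ jF E E') ≫ jF K E = V.hom ≫ jF K E' by
      rw [Category.id_comp, Category.assoc, comp_jF])

instance isIso_compHom {E : Type u} [Field E] [Algebra K E] [Algebra.Etale K E] (E' : Type u) [Field E']
    [Algebra K E'] [Algebra.Etale K E'] [Algebra E E'] [IsScalarTower K E E'] [Algebra.Etale E E']
    (V : (S E').Etale) : IsIso (compHom (K := K) (E := E) E' V) :=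
  haveI : IsIso (compHom (K := K) (E := E) E' V).left := inferInstanceAs (IsIso (𝟙 V.left))
  isIso_of_left _

theorem compHom_natural {E : Type u} [Field E] [Algebra K E] [Algebra.Etale K E] (E' : Type u) [Field E']
    [Algebra K E'] [Algebra.Etale K E'] [Algebra E E'] [IsScalarTower K E E'] [Algebra.Etale E E']
    {V V' : (S E').Etale} (g : V' ⟶ V) :
    (EtShriek.compEtale (jF K E')).map g ≫ compHom (K := K) (E := E) E' V =
      compHom (K := K) (E := E) E' V' ≫
        (EtShriek.compEtale (jF K E)).map ((EtShriek.compEtale (jF E E')).map g) :=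
  MorphismProperty.Over.Hom.ext ((Category.comp_id g.left).trans (Category.id_comp g.left).symm)

/-- The presheaf form of transitivity of restriction. -/
noncomputable def restrCompPresheaf {E : Type u} [Field E] [Algebra K E] [Algebra.Etale K E] (E' : Type u)
    [Field E'] [Algebra K E'] [Algebra.Etale K E'] [Algebra E E'] [IsScalarTower K E E'] [Algebra.Etale E E']
    (G : EtCoh.Ab (S K)) :
    (EtShriek.compEtale (jF E E')).op ⋙ (EtShriek.compEtale (jF K E)).op ⋙ G.obj ≅
      (EtShriek.compEtale (jF K E')).op ⋙ G.obj :=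
  NatIso.ofComponents (fun V => G.obj.mapIso (asIso (compHom (K := K) (E := E) E' V.unop)).op)
    (fun {V V'} g => by
      refine (G.obj.map_comp _ _).symm.trans (Eq.trans ?_ (G.obj.map_comp _ _))
      exact congrArg (fun z => G.obj.map (Quiver.Hom.op z))
        (compHom_natural (K := K) (E := E) E' g.unop).symm)

/-- Restriction is transitive. -/
noncomputable def restrComp {E : Type u} [Field E] [Algebra K E] [Algebra.Etale K E] (E' : Type u) [Field E']
    [Algebra K E'] [Algebra.Etale K E'] [Algebra E E'] [IsScalarTower K E E'] [Algebra.Etale E E']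
    (G : EtCoh.Ab (S K)) :
    (EtShriek.restrAlong (jF E E')).obj ((EtShriek.restrAlong (jF K E)).obj G) ≅
      (EtShriek.restrAlong (jF K E')).obj G :=
  (sheafToPresheaf _ _).preimageIso (restrCompPresheaf E' G)

theorem H1Good.restr {G : EtCoh.Ab (S K)} (h : H1Good G) (E : Type u) [Field E] [Algebra K E]
    [Algebra.Etale K E] [FiniteDimensional K E] [Algebra.IsSeparable K E] :
    H1Good ((EtShriek.restrAlong (jF K E)).obj G) := by
  intro E' _ _ _ hf
  haveI := hf
  haveI := Algebra.FormallyUnramified.isSeparable E E'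
  letI : Algebra K E' := ((algebraMap E E').comp (algebraMap K E)).toAlgebra
  haveI : IsScalarTower K E E' := IsScalarTower.of_algebraMap_eq fun x => rfl
  haveI : FiniteDimensional K E' := Module.Finite.trans E E'
  haveI : Algebra.IsSeparable K E' := Algebra.IsSeparable.trans K E E'
  haveI := etale_of_finite K E'
  haveI : Subsingleton ↑((EtCoh.HF (S E') 1).obj ((EtShriek.restrAlong (jF K E')).obj G)) := h E' ‹_›
  exact Equiv.subsingleton
    (((EtCoh.HF (S E') 1).mapIso (restrComp E' G)).addCommGroupIsoToAddEquiv.toEquiv)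

theorem NormGood.restr {G : EtCoh.Ab (S K)} (h : NormGood G) (E : Type u) [Field E] [Algebra K E]
    [Algebra.Etale K E] [FiniteDimensional K E] [Algebra.IsSeparable K E] :
    NormGood ((EtShriek.restrAlong (jF K E)).obj G) := by
  intro E' M _ _ _ _ _ _ _ _ _ _ _ hp s
  haveI := Algebra.FormallyUnramified.isSeparable E E'
  letI : Algebra K E' := ((algebraMap E E').comp (algebraMap K E)).toAlgebra
  haveI : IsScalarTower K E E' := IsScalarTower.of_algebraMap_eq fun x => rfl
  haveI : FiniteDimensional K E' := Module.Finite.trans E E'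
  haveI : Algebra.IsSeparable K E' := Algebra.IsSeparable.trans K E E'
  haveI := etale_of_finite K E'
  haveI : FiniteDimensional E M := Module.Finite.trans E' M
  haveI := Algebra.FormallyUnramified.isSeparable E M
  letI : Algebra K M := ((algebraMap E M).comp (algebraMap K E)).toAlgebra
  haveI : IsScalarTower K E M := IsScalarTower.of_algebraMap_eq fun x => rfl
  haveI : IsScalarTower K E' M := IsScalarTower.of_algebraMap_eq fun x =>
    IsScalarTower.algebraMap_apply E E' M (algebraMap K E x)
  haveI : FiniteDimensional K M := Module.Finite.trans E M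
  haveI : Algebra.IsSeparable K M := Algebra.IsSeparable.trans K E M
  haveI := etale_of_finite K M
  let iE := towerIso (K := K) E E'
  let iM := towerIso (K := K) E M
  obtain ⟨t, ht⟩ := h E' M hp (G.obj.map (inv iE).op s)
  refine ⟨G.obj.map iM.op t, ?_⟩
  have key : ∀ τ : M ≃ₐ[E'] M,
      G.obj.map ((EtShriek.compEtale (jF K E)).map (homO (τ.toAlgHom.restrictScalars E))).op
        (G.obj.map iM.op t) =
      G.obj.map iM.op (G.obj.map (homO (τ.toAlgHom.restrictScalars K)).op t) := fun τ => by
    refine (map_map G _ _ _).trans (Eq.trans ?_ (map_map G _ _ _).symm)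
    refine congrArg (fun z => G.obj.map (Quiver.Hom.op z) t) (MorphismProperty.Over.Hom.ext ?_)
    show Spec.map (CommRingCat.ofHom τ.toAlgHom.toRingHom) ≫ 𝟙 _ =
      𝟙 _ ≫ Spec.map (CommRingCat.ofHom τ.toAlgHom.toRingHom)
    rw [Category.comp_id, Category.id_comp]
  refine (Finset.sum_congr rfl fun τ _ => key τ).trans ?_
  refine (map_sum (G.obj.map iM.op).hom _ _).symm.trans ?_
  refine (congrArg (G.obj.map iM.op) ht).trans ?_
  refine (congrArg (G.obj.map iM.op) (map_map G _ _ _)).trans ((map_map G _ _ _).trans ?_)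
  refine congrArg (fun z => G.obj.map (Quiver.Hom.op z) s) ?_
  show iM ≫ homO (IsScalarTower.toAlgHom K E' M) ≫ inv iE =
    (EtShriek.compEtale (jF K E)).map (homO (IsScalarTower.toAlgHom E E' M))
  rw [← Category.assoc, IsIso.comp_inv_eq]
  refine MorphismProperty.Over.Hom.ext ?_
  show 𝟙 _ ≫ Spec.map (CommRingCat.ofHom (algebraMap E' M)) =
    Spec.map (CommRingCat.ofHom (algebraMap E' M)) ≫ 𝟙 _
  rw [Category.comp_id, Category.id_comp]

section Cyclic

variable {M : Type u} [Field M] [Algebra K M] [FiniteDimensional K M] [IsGalois K M] [Algebra.Etale K M]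
  (G : EtCoh.Ab (S K))

/-- The cyclic vanishing criterion in all degrees. -/
theorem eq_zero_of_cyclic' {σ : M ≃ₐ[K] M} (hσ : ∀ τ : M ≃ₐ[K] M, τ ∈ Subgroup.zpowers σ) (n : ℕ)
    (hP : Subsingleton (EtCoh.H (S K) ((P (jF K M)).obj G) (n + 1)))
    (hz : ∀ z : EtCoh.H (S K) G n, ∃ t : EtCoh.H (S K) ((P (jF K M)).obj G) n,
      t.comp (Ext.mk₀ (ν (M := M) G)) (add_zero n) = z)
    (x : EtCoh.H (S K) G (n + 2)) (hx : (Ext.mk₀ (aug (jF K M))).comp x (zero_add (n + 2)) = 0) :
    x = 0 := by
  haveI := mono_η K M G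
  haveI := mono_θ G hσ
  haveI := mono_desc G hσ
  haveI := epi_ν (M := M) G
  let A := ShortComplex.mk ((η (jF K M)).app G) (cokernel.π _) (cokernel.condition _)
  have hA : A.ShortExact :=
    { exact := ShortComplex.exact_of_g_is_cokernel _ (cokernelIsCokernel _)
      mono_f := mono_η K M G
      epi_g := inferInstanceAs (Epi (cokernel.π ((η (jF K M)).app G))) }
  let B := ShortComplex.mk (θ G σ) (ν G) (θ_ν G σ)
  have hB : B.ShortExact :=
    { exact := B.exact_iff_mono_cokernel_desc.2 (mono_desc G hσ)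
      mono_f := mono_θ G hσ
      epi_g := epi_ν G }
  obtain ⟨y, rfl⟩ := Ext.covariant_sequence_exact₁ _ hA x (comp_η_eq_zero _ x hx) (n₀ := n + 1) rfl
  obtain ⟨z, rfl⟩ := Ext.covariant_sequence_exact₁ _ hB y
    (Subsingleton.elim (α := EtCoh.H (S K) ((P (jF K M)).obj G) (n + 1)) _ _) (n₀ := n) rfl
  obtain ⟨t, rfl⟩ := hz z
  have h0 : (t.comp (Ext.mk₀ B.g) (add_zero n)).comp hB.extClass rfl = 0 := by
    rw [Ext.comp_assoc_of_second_deg_zero, hB.comp_extClass, Ext.comp_zero]
  exact (congrArg (fun e => Ext.comp e hA.extClass rfl) h0).trans (Ext.zero_comp ..)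

theorem ν_H0_surjective (hN : NormGood G) (hp : (Module.finrank K M).Prime) (z : EtCoh.H (S K) G 0) :
    ∃ t : EtCoh.H (S K) ((P (jF K M)).obj G) 0, t.comp (Ext.mk₀ (ν (M := M) G)) (add_zero 0) = z := by
  obtain ⟨f, rfl⟩ := (Ext.mk₀_bijective _ _).2 z
  haveI := etale_of_finite K K
  let topM := (EtCore.topIsTerminal (S K)).from (O K M)
  let s := G.obj.map ((EtCore.topIsTerminal (S K)).from (O K K)).op (PullSec.elem (S K) G f)
  obtain ⟨m, hm⟩ := hN K M hp s
  let v := G.obj.map (q M (EtCoh.top (S K))).op m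
  have hv : (ν (M := M) G).hom.app (op (EtCoh.top (S K))) v = PullSec.elem (S K) G f := by
    refine sections_ext G (fun _ : Unit => O K M) (fun _ => topM) (fun x => surjective_to_top _ x) _ _
      fun _ => ?_
    refine (NatTrans.naturality_apply (ν (M := M) G).hom topM.op _).symm.trans ?_
    have hq : ((P (jF K M)).obj G).obj.map topM.op v = G.obj.map (q M (O K M)).op m := by
      show G.obj.map ((EtShriek.compEtale (jF K M)).map ((EtCoh.bc (jF K M)).map topM)).op
        (G.obj.map (q M (EtCoh.top (S K))).op m) = _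
      rw [map_map, q_natural]
    refine (congrArg ((ν (M := M) G).hom.app (op (O K M))) hq).trans ?_
    refine (ν_app G (AlgHom.id K M) _).trans ?_
    refine (Finset.sum_congr rfl fun τ _ => coord_map G _ m).trans ?_
    refine Eq.trans ?_ (hm.trans ?_)
    · exact Finset.sum_congr rfl fun τ _ => rfl
    · refine (map_map G _ _ _).trans ?_
      exact congrArg (fun z => G.obj.map (Quiver.Hom.op z) (PullSec.elem (S K) G f))
        ((EtCore.topIsTerminal (S K)).hom_ext _ _)
  refine ⟨Ext.mk₀ ((PullSec.elem (S K) _).symm v), ?_⟩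
  rw [Ext.mk₀_comp_mk₀]
  refine congrArg Ext.mk₀ ((PullSec.elem (S K) G).injective ?_)
  rw [PullSec.elem_comp]
  exact (congrArg ((ν (M := M) G).hom.app (op (EtCoh.top (S K))))
    (AddEquiv.apply_symm_apply (PullSec.elem (S K) ((P (jF K M)).obj G)) v)).trans hv

end Cyclic

/-- A class and its restriction to an intermediate field. -/
theorem exists_restrict' {E N : Type u} [Field E] [Algebra K E] [Algebra.Etale K E] [Field N] [Algebra K N]
    [Algebra.Etale K N] [Algebra E N] [IsScalarTower K E N] [Algebra.Etale E N]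
    (G : EtCoh.Ab (S K)) (n : ℕ)
    (x : EtCoh.H (S K) G n) (hx : (Ext.mk₀ (aug (jF K N))).comp x (zero_add n) = 0) :
    ∃ y : EtCoh.H (S E) ((EtShriek.restrAlong (jF K E)).obj G) n,
      (Ext.mk₀ (aug (jF E N))).comp y (zero_add n) = 0 ∧
      (y = 0 → (Ext.mk₀ (aug (jF K E))).comp x (zero_add n) = 0) := by
  let e := ((Basic.pullIsoRestr (jF K E)).app G).hom
  refine ⟨(EtCore.Hpull (jF K E) _ n x).comp (Ext.mk₀ e) (add_zero n), ?_, fun h => ?_⟩
  · refine (Hpull_eq_zero_iff (jF E N) _ n _).1 ?_
    have h0 : EtCore.Hpull (jF E N) _ n (EtCore.Hpull (jF K E) G n x) = 0 := by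
      have hh := Groth.Agent.H61.HpullFunct.HpullVia_Hpull (jF E N) (jF K E) (jF K N) (comp_jF E N)
        G n x
      rw [(Hpull_eq_zero_iff (jF K N) G n x).2 hx, EtCore.HpullVia] at hh
      have hm : Mono ((EtCoh.HF (S N) n).map (((EtCore.pullComp (jF E N) (jF K E)).symm ≪≫
          EtCore.pullCongr (comp_jF E N)).app G).hom) := inferInstance
      exact (AddCommGrpCat.mono_iff_injective _).1 hm (hh.trans (map_zero _).symm)
    refine (Groth.Agent.H61.HpullFunct.Hpull_map (f := jF E N) e n (EtCore.Hpull (jF K E) _ n x)).trans ?_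
    exact (congrArg _ h0).trans (map_zero _)
  · refine (Hpull_eq_zero_iff (jF K E) G n x).1 ?_
    have h' := congrArg
      (fun t => Ext.comp t (Ext.mk₀ ((Basic.pullIsoRestr (jF K E)).app G).inv) (add_zero n)) h
    rw [Ext.comp_assoc_of_third_deg_zero, Ext.mk₀_comp_mk₀, Iso.hom_inv_id, Ext.comp_mk₀_id,
      Ext.zero_comp] at h'
    exact h'

/-- Vanishing in degree `n + 1`. -/
def VanishAll (n : ℕ) : Prop :=
  ∀ (K : Type u) [Field K] (G : EtCoh.Ab (S K)), H1Good G → NormGood G →
    Subsingleton (EtCoh.H (S K) G (n + 1))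

theorem eq_zero_pGroup (p : ℕ) [Fact p.Prime] (n : ℕ) (hlow : ∀ m, m ≤ n → VanishAll.{u} m) :
    ∀ (c : ℕ) (K : Type u) [Field K] (G : EtCoh.Ab (S K)), H1Good G → NormGood G →
      ∀ (N : Type u) [Field N] [Algebra K N] [FiniteDimensional K N] [IsGalois K N] [Algebra.Etale K N],
      IsPGroup p (N ≃ₐ[K] N) → Module.finrank K N = p ^ c →
      ∀ y : EtCoh.H (S K) G (n + 2), (Ext.mk₀ (aug (jF K N))).comp y (zero_add (n + 2)) = 0 → y = 0 := by
  intro c
  induction c with
  | zero =>
    intro K _ G _ _ N _ _ _ _ _ _ hn y hy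
    have h := finrank_nsmul_eq_zero K N hy
    rwa [hn, pow_zero, one_nsmul] at h
  | succ c ih =>
    intro K _ G hG hGN N _ _ _ _ _ hP hn y hy
    have hcard : Nat.card (N ≃ₐ[K] N) = p ^ (c + 1) := by rw [IsGalois.card_aut_eq_finrank, hn]
    obtain ⟨H, hH⟩ := Sylow.exists_subgroup_card_pow_prime p (n := c)
      (hcard ▸ pow_dvd_pow p (Nat.le_succ c))
    have hidx : H.index = p := by
      have h := H.card_mul_index
      rw [hH, hcard, pow_succ] at h
      exact Nat.eq_of_mul_eq_mul_left (pow_pos (Fact.out : p.Prime).pos c) h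
    haveI : H.Normal := Subgroup.normal_of_index_eq_minFac_card (by
      rw [hidx, hcard, Nat.pow_minFac (Nat.succ_ne_zero c), (Fact.out : p.Prime).minFac_eq])
    let E := IntermediateField.fixedField H
    haveI : Algebra.IsSeparable K E := Algebra.isSeparable_tower_bot_of_isSeparable K E N
    haveI : IsGalois K E := IsGalois.of_fixedField_normal_subgroup H
    haveI := etale_of_finite K E
    haveI := etale_of_finite E N
    have hEN : Module.finrank E N = p ^ c := by rw [IntermediateField.finrank_fixedField_eq_card, hH]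
    have hKE : Module.finrank K E = p := by
      have h := Module.finrank_mul_finrank K E N
      rw [hEN, hn, pow_succ, mul_comm (p ^ c)] at h
      exact Nat.eq_of_mul_eq_mul_right (pow_pos (Fact.out : p.Prime).pos c) h
    obtain ⟨z, hz, hz'⟩ := exists_restrict' (E := E) (N := N) G _ y hy
    have h0 : (Ext.mk₀ (aug (jF K E))).comp y (zero_add (n + 2)) = 0 :=
      hz' (ih E _ (hG.restr E) (hGN.restr E) N
        (IsPGroup.of_card (n := c) (by rw [IsGalois.card_aut_eq_finrank, hEN])) hEN z hz)
    haveI : IsCyclic (E ≃ₐ[K] E) := isCyclic_of_prime_card (p := p) (by rw [IsGalois.card_aut_eq_finrank, hKE])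
    obtain ⟨σ, hσ⟩ := IsCyclic.exists_generator (α := E ≃ₐ[K] E)
    have hP' : Subsingleton (EtCoh.H (S K) ((P (jF K E)).obj G) (n + 1)) := by
      haveI := hlow n le_rfl E _ (hG.restr E) (hGN.restr E)
      haveI : IsFinite (jF K E) := (IsFinite.SpecMap_iff _).2 (RingHom.finite_algebraMap.2 inferInstance)
      obtain ⟨f⟩ := PushInt.nonempty_Hequiv (jF K E) ((EtShriek.restrAlong (jF K E)).obj G) (n + 1)
      exact Equiv.subsingleton f.toEquiv
    refine eq_zero_of_cyclic' G hσ n hP' ?_ y h0
    intro w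
    rcases Nat.eq_zero_or_pos n with rfl | hn0
    · exact ν_H0_surjective G hGN (by rw [hKE]; exact Fact.out) w
    · obtain ⟨m, rfl⟩ : ∃ m, n = m + 1 := ⟨n - 1, by omega⟩
      haveI := hlow m (Nat.le_succ m) K G hG hGN
      exact ⟨0, (Ext.zero_comp ..).trans (Subsingleton.elim (α := EtCoh.H (S K) G (m + 1)) _ _)⟩

theorem vanish_succ (n : ℕ) (hlow : ∀ m, m ≤ n → VanishAll.{u} m) : VanishAll.{u} (n + 1) := by
  intro K _ G hG hGN
  suffices h : ∀ x : EtCoh.H (S K) G (n + 2), x = 0 from ⟨fun a b => by rw [h a, h b]⟩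
  intro x
  by_contra hx0
  have hfin := isOfFinAddOrder (K := K) (G := G) (i := n + 2) (by omega) x
  have h1 : addOrderOf x ≠ 1 := fun h => hx0 (AddMonoid.addOrderOf_eq_one_iff.1 h)
  obtain ⟨p, hp, hdvd⟩ := Nat.exists_prime_and_dvd h1
  haveI := Fact.mk hp
  obtain ⟨L₀, _, _, _, _, _, hL₀⟩ := exists_kill (n + 1) G x
  obtain ⟨N, _, _, _, _, _, hN⟩ := exists_galois_receiving (K := K) (fun _ : Unit => L₀)
  obtain ⟨ψ₀⟩ := hN ()
  have hx : (Ext.mk₀ (aug (jF K N))).comp x (zero_add (n + 2)) = 0 :=
    mk₀_aug_comp_eq_zero (jF K L₀) (jF K N) (homO ψ₀) hL₀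
  obtain ⟨P⟩ : Nonempty (Sylow p (N ≃ₐ[K] N)) := inferInstance
  let E := IntermediateField.fixedField P.toSubgroup
  haveI : Algebra.IsSeparable K E := Algebra.isSeparable_tower_bot_of_isSeparable K E N
  haveI := etale_of_finite K E
  haveI := etale_of_finite E N
  obtain ⟨c, hc⟩ := IsPGroup.iff_card.1 P.isPGroup'
  have hEN : Module.finrank E N = p ^ c := by
    rw [IntermediateField.finrank_fixedField_eq_card]
    exact hc
  have hcop : ¬ p ∣ Module.finrank K E := by
    have h1 : Module.finrank K E * Module.finrank E N = Module.finrank K N := Module.finrank_mul_finrank K E N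
    rw [IntermediateField.finrank_fixedField_eq_card, ← IsGalois.card_aut_eq_finrank K N,
      ← P.toSubgroup.index_mul_card] at h1
    rw [mul_right_cancel₀ Nat.card_pos.ne' h1]
    exact P.not_dvd_index
  obtain ⟨z, hz, hz'⟩ := exists_restrict' (E := E) (N := N) G _ x hx
  have h2 : Module.finrank K E • x = 0 := finrank_nsmul_eq_zero K E (hz' (eq_zero_pGroup p n hlow c E _
    (hG.restr E) (hGN.restr E) N
    (IsPGroup.of_card (n := c) (by rw [IsGalois.card_aut_eq_finrank, hEN])) hEN z hz))
  exact hcop (dvd_trans hdvd (addOrderOf_dvd_of_nsmul_eq_zero h2))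

theorem vanishAll_zero : VanishAll.{u} 0 := by
  intro K _ G hG _
  haveI := etale_of_finite K K
  haveI : Subsingleton ↑((EtCoh.HF (S K) 1).obj ((EtShriek.restrAlong (jF K K)).obj G)) := hG K inferInstance
  let a : ∀ V : (S K).Etale, V ⟶ (EtShriek.compEtale (jF K K)).obj V := fun V =>
    MorphismProperty.Over.homMk (𝟙 V.left)
      (show 𝟙 V.left ≫ V.hom ≫ jF K K = V.hom by
        rw [Category.id_comp]
        exact (congrArg (V.hom ≫ ·) (Spec.map_id _)).trans (Category.comp_id _))
  have ha : ∀ V : (S K).Etale, IsIso (a V) := fun V =>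
    haveI : IsIso (a V).left := inferInstanceAs (IsIso (𝟙 V.left))
    isIso_of_left (a V)
  let e : (EtShriek.restrAlong (jF K K)).obj G ≅ G :=
    (sheafToPresheaf _ _).preimageIso (NatIso.ofComponents
      (fun V => haveI := ha V.unop; G.obj.mapIso (asIso (a V.unop)).op)
      (fun {V V'} g => by
        refine (G.obj.map_comp _ _).symm.trans (Eq.trans ?_ (G.obj.map_comp _ _))
        refine congrArg G.obj.map (Quiver.Hom.unop_inj ?_)
        exact MorphismProperty.Over.Hom.ext ((Category.id_comp _).trans (Category.comp_id _).symm)))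
  exact Equiv.subsingleton (((EtCoh.HF (S K) 1).mapIso e.symm).addCommGroupIsoToAddEquiv.toEquiv)

/-- The field criterion. -/
theorem vanish (n : ℕ) : VanishAll.{u} n := by
  induction n using Nat.strong_induction_on with
  | _ n ih =>
    cases n with
    | zero => exact vanishAll_zero
    | succ n => exact vanish_succ n fun m hm => ih m (Nat.lt_succ_of_le hm)

end Groth.Agent.Lib.HensGm50
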