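import Groth.Agent.H24.EssEtale.IndEtale
import Groth.Agent.Lib.Azumaya.EtaleSub
import Mathlib.FieldTheory.PrimitiveElement
import Mathlib.FieldTheory.Galois.Basic
import Mathlib.RingTheory.Norm.Transitivity
import Mathlib.Algebra.Polynomial.Reverse

/-!
# Finite étale lifts of residue extensions and norms of principal units

* `exists_lift`: a finite separable extension of the residue field of a henselian local ring lifts to a
  finite étale henselian local algebra, uniquely functorial in local henselian algebras.
* `exists_prod_eq_one_add`: for a finite group acting on a henselian local ring with an element of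
  trace one, every `1 + w`, `w` invariant in the maximal ideal, is a product of conjugates of `1 + w * z`.
-/

set_option autoImplicit false
set_option linter.style.haveILetI false

universe u

open IsLocalRing Polynomial

namespace Groth.Agent.Lib.HensGm50

/-- Two roots congruent modulo the maximal ideal are equal if the derivative is a unit. -/
theorem root_unique {T : Type u} [CommRing T] [IsLocalRing T] (f : T[X]) {a b : T}
    (ha : f.eval a = 0) (hb : f.eval b = 0) (hab : b - a ∈ maximalIdeal T)
    (hd : IsUnit (f.derivative.eval a)) : b = a := by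
  obtain ⟨k, hk⟩ := f.binomExpansion a (b - a)
  rw [add_sub_cancel, ha, hb, zero_add] at hk
  have hu : IsUnit (f.derivative.eval a + k * (b - a)) := by
    by_contra h
    have h1 : f.derivative.eval a + k * (b - a) ∈ maximalIdeal T := h
    have h2 := (maximalIdeal T).sub_mem h1 (Ideal.mul_mem_left _ k hab)
    rw [add_sub_cancel_right] at h2
    exact h2 hd
  refine sub_eq_zero.1 (hu.mul_right_eq_zero.1 ?_)
  linear_combination -hk

theorem isLocalRing_ker {T F : Type u} [CommRing T] [IsLocalRing T] [Field F] (π : T →+* F)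
    (hπ : Function.Surjective π) : RingHom.ker π = maximalIdeal T :=
  IsLocalRing.eq_maximalIdeal (RingHom.ker_isMaximal_of_surjective π hπ)

/-- Finite étale lifts of finite separable residue extensions. -/
theorem exists_lift (R : Type u) [CommRing R] [HenselianLocalRing R] (E : Type u) [Field E]
    [Algebra (ResidueField R) E] [FiniteDimensional (ResidueField R) E]
    [Algebra.IsSeparable (ResidueField R) E] :
    ∃ (T : Type u) (_ : CommRing T) (_ : Algebra R T) (_ : HenselianLocalRing T) (_ : Module.Finite R T)
      (_ : Algebra.Etale R T) (π : T →+* E), Function.Surjective π ∧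
      (maximalIdeal R).map (algebraMap R T) = maximalIdeal T ∧
      π.comp (algebraMap R T) = (algebraMap (ResidueField R) E).comp (residue R) ∧
      ∀ (T' F : Type u) [CommRing T'] [HenselianLocalRing T'] [Algebra R T'] [Field F] (π' : T' →+* F),
        Function.Surjective π' → ∀ (φ : E →+* F),
        π'.comp (algebraMap R T') = φ.comp ((algebraMap (ResidueField R) E).comp (residue R)) →
        ∃! ψ : T →ₐ[R] T', π'.comp ψ.toRingHom = φ.comp π := by
  obtain ⟨α, hα⟩ := Field.exists_primitive_element (ResidueField R) E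
  have hint : IsIntegral (ResidueField R) α := IsIntegral.of_finite _ α
  obtain ⟨G, hG, -, hGmon⟩ := Polynomial.lifts_and_natDegree_eq_and_monic
    (f := residue R) (p := minpoly (ResidueField R) α)
    ((Polynomial.lifts_iff_coeff_lifts _).mpr fun n => residue_surjective _) (minpoly.monic hint)
  have hirr : Irreducible (G.map (residue R)) := hG.symm ▸ minpoly.irreducible hint
  have hsep : (G.map (residue R)).Separable := hG.symm ▸ Algebra.IsSeparable.isSeparable _ α
  obtain ⟨hloc, hmax⟩ := H24.EssEtale.IndEtale.isLocalRing_adjoinRoot hGmon hirr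
  haveI := hloc
  haveI : Module.Finite R (AdjoinRoot G) := hGmon.finite_adjoinRoot
  haveI : HenselianLocalRing (AdjoinRoot G) :=
    Lib.Henselian.LocalRing.henselianLocalRing_of_isIntegral R (AdjoinRoot G)
  let κE := (algebraMap (ResidueField R) E).comp (residue R)
  have hev : G.eval₂ κE α = 0 := by
    rw [← eval₂_map, hG]
    exact minpoly.aeval _ _
  let π : AdjoinRoot G →+* E := AdjoinRoot.lift κE α hev
  have hπ : Function.Surjective π := fun e => by
    have he : e ∈ (IntermediateField.adjoin (ResidueField R) {α}).toSubalgebra := by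
      show e ∈ (IntermediateField.adjoin (ResidueField R) {α})
      rw [hα]
      trivial
    rw [IntermediateField.adjoin_simple_toSubalgebra_of_isAlgebraic
      (Algebra.IsAlgebraic.isAlgebraic _), Algebra.adjoin_singleton_eq_range_aeval] at he
    obtain ⟨p, hp⟩ := he
    obtain ⟨p, rfl⟩ := Polynomial.map_surjective (residue R) residue_surjective p
    refine ⟨AdjoinRoot.mk G p, ?_⟩
    rw [← hp]
    show _ = aeval α (p.map (residue R))
    rw [aeval_def, eval₂_map]
    exact AdjoinRoot.lift_mk hev p
  refine ⟨AdjoinRoot G, inferInstance, inferInstance, inferInstance, inferInstance,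
    Lib.Azumaya.EtaleSub.etale_adjoinRoot hGmon hsep, π, hπ, eq_maximalIdeal hmax, RingHom.ext fun r => AdjoinRoot.lift_of hev, ?_⟩
  intro T' F _ _ _ _ π' hπ' φ hφ
  have hres : ∀ (p : R[X]) (x : T'), π' (p.eval₂ (algebraMap R T') x) =
      p.eval₂ (φ.comp κE) (π' x) := fun p x => by rw [hom_eval₂, hφ]
  obtain ⟨a₀, ha₀⟩ := hπ' (φ α)
  have hker := isLocalRing_ker π' hπ'
  have h1 : (G.map (algebraMap R T')).eval a₀ ∈ maximalIdeal T' := by
    rw [← hker, RingHom.mem_ker, eval_map, hres, ha₀, ← hom_eval₂, hev, map_zero]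
  have hd : ∀ x : T', π' x = φ α → IsUnit ((G.map (algebraMap R T')).derivative.eval x) := fun x hx => by
    by_contra h
    have h' : (G.map (algebraMap R T')).derivative.eval x ∈ RingHom.ker π' := hker.symm ▸ h
    rw [RingHom.mem_ker, derivative_map, eval_map, hres, hx, ← hom_eval₂] at h'
    have h'' : G.derivative.eval₂ κE α = 0 := φ.injective (h'.trans (map_zero φ).symm)
    rw [← eval₂_map, ← derivative_map, hG] at h''
    exact (Algebra.IsSeparable.isSeparable (ResidueField R) α).aeval_derivative_ne_zero
      (minpoly.aeval _ _) h''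
  obtain ⟨a, ha, haa⟩ := HenselianLocalRing.is_henselian _ (hGmon.map (algebraMap R T')) a₀ h1 (hd a₀ ha₀)
  have hπa : π' a = φ α := by
    rw [← ha₀, ← sub_eq_zero, ← map_sub, ← RingHom.mem_ker, hker]
    exact haa
  have hroot : G.eval₂ (algebraMap R T') a = 0 := by
    rw [← eval_map]
    exact ha
  refine ⟨AdjoinRoot.liftAlgHom G (Algebra.ofId R T') a hroot, ?_, fun ψ hψ => ?_⟩
  · refine AdjoinRoot.ringHom_ext (RingHom.ext fun r => ?_) ?_
    · show π' (AdjoinRoot.liftAlgHom G (Algebra.ofId R T') a hroot (algebraMap R _ r)) =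
        φ (π (AdjoinRoot.of G r))
      rw [AlgHom.commutes, show π (AdjoinRoot.of G r) = κE r from AdjoinRoot.lift_of hev]
      exact RingHom.congr_fun hφ r
    · show π' (AdjoinRoot.liftAlgHom G (Algebra.ofId R T') a hroot (AdjoinRoot.root G)) =
        φ (π (AdjoinRoot.root G))
      rw [AdjoinRoot.liftAlgHom_root, show π (AdjoinRoot.root G) = α from AdjoinRoot.lift_root hev, hπa]
  · refine AdjoinRoot.algHom_ext ?_
    rw [AdjoinRoot.liftAlgHom_root]
    have hb : π' (ψ (AdjoinRoot.root G)) = φ α :=
      (RingHom.congr_fun hψ (AdjoinRoot.root G)).trans (congrArg φ (AdjoinRoot.lift_root hev))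
    refine root_unique (G.map (algebraMap R T')) ha ?_ ?_ (hd a hπa)
    · rw [eval_map, ← aeval_def, Polynomial.aeval_algHom_apply, AdjoinRoot.aeval_eq, AdjoinRoot.mk_self,
        map_zero]
    · rw [← hker, RingHom.mem_ker, map_sub, hb, hπa, sub_self]

section Norm

variable {T : Type u} [CommRing T] [HenselianLocalRing T] {Γ : Type*} [Group Γ] [Fintype Γ]

/-- Norms of principal units in a henselian local ring with a finite group action. -/
theorem exists_prod_eq_one_add (act : Γ → T →+* T) (hmul : ∀ (σ τ : Γ) (x : T), act (σ * τ) x = act σ (act τ x))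
    (θ : T) (hθ : ∑ τ, act τ θ = 1) (w : T) (hw : w ∈ maximalIdeal T) (hinv : ∀ τ, act τ w = w) (hone : ∀ x, act 1 x = x) :
    ∃ y : T, ∏ τ, act τ (1 + w * y) = 1 + w := by
  classical
  let P : T[X] := ∏ τ, (1 + C (act τ θ) * X)
  let h : T[X] := P.divX
  have hP0 : P.coeff 0 = 1 := by
    rw [coeff_zero_eq_eval_zero, eval_prod]
    simp
  have hh0 : h.coeff 0 = 1 := by
    rw [coeff_divX, zero_add]
    have h1 : P.derivative.eval 0 = P.coeff 1 := by
      rw [← coeff_zero_eq_eval_zero, coeff_derivative]
      simp
    rw [← h1, derivative_prod_finset, eval_finset_sum, ← hθ]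
    refine Finset.sum_congr rfl fun τ _ => ?_
    simp [eval_prod]
  have hPinv : ∀ σ, P.map (act σ) = P := fun σ => by
    simp only [P, Polynomial.map_prod, Polynomial.map_add, Polynomial.map_one, Polynomial.map_mul, map_C, map_X]
    exact Fintype.prod_equiv (Equiv.mulLeft σ) _ _ fun τ => by simp [hmul]
  have hhinv : ∀ σ, h.map (act σ) = h := fun σ => by
    ext n
    rw [coeff_map, coeff_divX, ← coeff_map, hPinv]
  let H : T[X] := X * h.comp (C w * X) - 1
  have hH0 : H.coeff 0 = -1 := by simp [H]
  have hHinv : ∀ σ, H.map (act σ) = H := fun σ => by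
    simp only [H, Polynomial.map_sub, Polynomial.map_mul, map_X, Polynomial.map_one, map_comp, map_C, hhinv, hinv]
  have hres : H.map (residue T) = X - 1 := by
    simp only [H, Polynomial.map_sub, Polynomial.map_mul, map_X, Polynomial.map_one, map_comp, map_C,
      (residue_eq_zero_iff w).2 hw, map_zero, zero_mul, comp_zero, ← coeff_zero_eq_eval_zero, coeff_map,
      hh0, map_one, mul_one]
  let N := H.natDegree
  have hN : 1 ≤ N := by
    have h1 := natDegree_map_le (f := residue T) (p := H)
    rw [hres, show (X : (ResidueField T)[X]) - 1 = X - C 1 by simp, natDegree_X_sub_C] at h1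
    exact h1
  let F : T[X] := -H.reverse
  have hH00 : H.natTrailingDegree = 0 := natTrailingDegree_eq_zero_of_constantCoeff_ne_zero (by
    rw [constantCoeff_apply, hH0]
    exact neg_ne_zero.2 one_ne_zero)
  have hFmon : F.Monic := by
    show (-H.reverse).leadingCoeff = 1
    rw [leadingCoeff_neg, reverse_leadingCoeff, trailingCoeff, hH00, hH0, neg_neg]
  have hFres : F.map (residue T) = X ^ N - X ^ (N - 1) := by
    ext n
    show (((-H.reverse).map (residue T))).coeff n = _
    rw [coeff_map, coeff_neg, coeff_reverse, map_neg, ← coeff_map, hres, coeff_sub, coeff_sub, coeff_X_pow,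
      coeff_X_pow, coeff_X, coeff_one, revAt]
    simp only [Function.Embedding.coeFn_mk, revAtFun]
    split_ifs <;> first | (exfalso; omega) | ring
  have hFinv : ∀ σ, F.map (act σ) = F := fun σ => by
    ext n
    show ((-H.reverse).map (act σ)).coeff n = (-H.reverse).coeff n
    rw [coeff_map, coeff_neg, coeff_reverse, map_neg, ← coeff_map, hHinv]
  have hd : ∀ z : T, z - 1 ∈ maximalIdeal T → IsUnit (F.derivative.eval z) := fun z hz => by
    by_contra hnu
    have h0 : residue T (F.derivative.eval z) = 0 := (residue_eq_zero_iff _).2 hnu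
    rw [← eval₂_at_apply, ← eval_map, ← derivative_map, hFres,
      sub_eq_zero.1 ((map_sub (residue T) z 1).symm.trans ((residue_eq_zero_iff _).2 hz)), map_one] at h0
    simp only [derivative_sub, derivative_X_pow, eval_sub, eval_mul, eval_C, eval_pow, eval_X, one_pow,
      mul_one] at h0
    rw [Nat.cast_sub hN, sub_sub_cancel, Nat.cast_one] at h0
    exact one_ne_zero h0
  have h1 : F.eval 1 ∈ maximalIdeal T := by
    rw [← residue_eq_zero_iff, ← eval₂_at_apply, ← eval_map, hFres, map_one]
    simp
  obtain ⟨z, hz, hz1⟩ := HenselianLocalRing.is_henselian F hFmon 1 h1 (hd 1 (by simp))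
  have hzu : IsUnit z := by
    by_contra hnu
    have h2 := (maximalIdeal T).sub_mem (show z ∈ maximalIdeal T from hnu) hz1
    rw [sub_sub_cancel] at h2
    exact (maximalIdeal.isMaximal T).ne_top ((Ideal.eq_top_iff_one _).2 h2)
  have hzinv : ∀ σ, act σ z = z := fun σ => by
    have hzσ : F.eval (act σ z) = 0 := by
      conv_lhs => rw [← hFinv σ]
      rw [eval_map, eval₂_at_apply, show F.eval z = 0 from hz, map_zero]
    refine root_unique F hz hzσ ?_ (hd z hz1)
    rw [← residue_eq_zero_iff, map_sub, sub_eq_zero]
    have hl : ∀ x ∈ maximalIdeal T, act σ x ∈ maximalIdeal T := fun x hx hu => hx (by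
      have h3 := hu.map (act σ⁻¹)
      rw [← hmul, inv_mul_cancel] at h3
      exact (hone x) ▸ h3)
    have h5 := hl _ hz1
    rw [map_sub, map_one] at h5
    exact (sub_eq_zero.1 ((map_sub _ _ _).symm.trans ((residue_eq_zero_iff _).2 h5))).trans
      (sub_eq_zero.1 ((map_sub _ _ _).symm.trans ((residue_eq_zero_iff _).2 hz1))).symm
  obtain ⟨v, rfl⟩ := hzu
  refine ⟨θ * (↑v⁻¹ : T), ?_⟩
  have hvi : ∀ σ, act σ (↑v⁻¹ : T) = ↑v⁻¹ := fun σ => by
    have h3 : act σ (↑v⁻¹ : T) * ↑v = 1 := by
      conv_lhs => rw [← hzinv σ]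
      rw [← map_mul, Units.inv_mul, map_one]
    exact v.eq_inv_of_mul_eq_one_left ((mul_comm _ _).trans h3)
  have hHy : H.eval (↑v⁻¹ : T) = 0 := by
    haveI : Invertible (↑v : T) := v.invertible
    have h4 := eval₂_reverse_mul_pow (RingHom.id T) (↑v⁻¹ : T) H
    haveI : Invertible (↑v⁻¹ : T) := v⁻¹.invertible
    have h5 : H.reverse.eval (↑v : T) = 0 := by
      have := hz
      simpa [F, IsRoot] using this
    rw [← eval₂_id, ← eval₂_reverse_mul_pow (RingHom.id T) (↑v⁻¹ : T) H, invOf_units, inv_inv,
      eval₂_id, h5, zero_mul]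
  have hP : P.eval (w * ↑v⁻¹) = 1 + w := by
    rw [← X_mul_divX_add P, hP0]
    simp only [eval_add, eval_mul, eval_X, eval_C]
    have h6 : (↑v⁻¹ : T) * h.eval (w * ↑v⁻¹) = 1 := by
      simpa [H, sub_eq_zero] using hHy
    linear_combination w * h6
  rw [← hP, eval_prod]
  refine Finset.prod_congr rfl fun τ _ => ?_
  simp only [map_add, map_mul, map_one, hinv, hvi, eval_add, eval_one, eval_mul, eval_C, eval_X]
  ring

end Norm

end Groth.Agent.Lib.HensGm50
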