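import Groth.Prelude.Def_EtLim
import Groth.Agent.Lib.EtH1Gm.Lift
import Groth.Agent.Lib.EtSite.Basic
import Mathlib.AlgebraicGeometry.Morphisms.ClosedImmersion

/-!
# Units lift locally along a closed immersion
-/

set_option autoImplicit false
set_option linter.style.haveILetI false

universe u

open CategoryTheory CategoryTheory.Limits AlgebraicGeometry Opposite

namespace Groth.Agent.Lib.HensGm50

open Groth.Agent.Lib.EtH1Gm.Lift Groth.Agent.H88

variable {X Y : Scheme.{u}} (i : X ⟶ Y)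

theorem val_zero {T : X.Etale} : MuLocal.val (0 : (EtCoh.Gm X).obj.obj (op T)) = 1 := rfl

/-- A function as a section of `G_m`. -/
noncomputable def mkUnit {T : Y.Etale} (c : Γ(T.left, ⊤)) (hc : IsUnit c) : EtCoh.sect (EtCoh.Gm Y) T :=
  ULift.up (Additive.ofMul hc.unit)

theorem val_mkUnit {T : Y.Etale} (c : Γ(T.left, ⊤)) (hc : IsUnit c) : MuLocal.val (mkUnit c hc) = c := rfl

/-- The restriction of functions to the closed subscheme. -/
noncomputable def res (V : Y.Etale) : Γ(V.left, ⊤) →+* Γ(((EtCoh.bc i).obj V).left, ⊤) :=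
  (pullback.fst V.hom i).appTop.hom

theorem val_GmPush (V : Y.Etale) (r : EtCoh.sect (EtCoh.Gm Y) V) :
    MuLocal.val ((EtLim.GmPush i).hom.app (op V) r : (EtCoh.Gm X).obj.obj (op ((EtCoh.bc i).obj V))) =
      res i V (MuLocal.val r) := rfl

theorem isUnit_of_basicOpen {Z : Scheme.{u}} (c : Γ(Z, ⊤)) (h : Z.basicOpen c = ⊤) : IsUnit c := by
  have h1 := Z.toRingedSpace.isUnit_res_basicOpen c
  have h2 : ∀ (U : Z.Opens) (e : U = ⊤), IsUnit (Z.presheaf.map (homOfLE (le_top : U ≤ ⊤)).op c) → IsUnit c := by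
    rintro _ rfl hu
    rwa [show (homOfLE (le_top : (⊤ : Z.Opens) ≤ ⊤)) = 𝟙 _ from rfl, op_id, CategoryTheory.Functor.map_id,
      ConcreteCategory.id_apply] at hu
  exact h2 _ h h1

theorem subsingleton_sections {Z : Scheme.{u}} (h : IsEmpty Z) : Subsingleton Γ(Z, ⊤) := by
  rw [show (⊤ : Z.Opens) = ⊥ from TopologicalSpace.Opens.ext (Set.eq_empty_of_isEmpty _)]
  infer_instance

/-- At any point a unit on the closed subscheme lifts on a neighbourhood. -/
theorem exists_lift_unit [IsClosedImmersion i] (V : Y.Etale) [IsAffine V.left]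
    (s : EtCoh.sect (EtCoh.Gm X) ((EtCoh.bc i).obj V)) (x : V.left) :
    ∃ (U : V.left.Opens) (r : EtCoh.sect (EtCoh.Gm Y) (sub V U)), x ∈ U ∧
      (EtLim.GmPush i).hom.app (op (sub V U)) r =
        (EtCoh.Gm X).obj.map ((EtCoh.bc i).map (subι V U)).op s := by
  haveI : IsClosedImmersion (pullback.fst V.hom i) :=
    MorphismProperty.pullback_fst (P := @IsClosedImmersion) _ _ inferInstance
  haveI : IsAffine ((𝟭 Scheme).obj V.left) := ‹IsAffine V.left›
  obtain ⟨c, hc⟩ := (IsClosedImmersion.isAffine_surjective_of_isAffine (pullback.fst V.hom i)).2 (MuLocal.val s)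
  have hrange : ∀ y, (pullback.fst V.hom i).base y ∈ V.left.basicOpen c := fun y => by
    have hu : IsUnit (MuLocal.val s) := Units.isUnit _
    have h1 := Scheme.preimage_basicOpen_top (pullback.fst V.hom i) c
    show y ∈ (pullback.fst V.hom i) ⁻¹ᵁ V.left.basicOpen c
    have h2 := (congrArg (Scheme.basicOpen _) hc).trans (Scheme.basicOpen_of_isUnit _ hu)
    exact (SetLike.ext_iff.1 (h1.trans h2) y).2 trivial
  have hnat : ∀ (U : V.left.Opens), (pullback.fst (sub V U).hom i).appTop.hom (U.ι.appTop.hom c) =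
      ((EtCoh.bc i).map (subι V U)).left.appTop.hom (MuLocal.val s) := fun U => by
    have hw := (EtLim.bcProj i).naturality (subι V U)
    have hw' : ((EtCoh.bc i).map (subι V U)).left ≫ pullback.fst V.hom i = pullback.fst (sub V U).hom i ≫ U.ι := hw
    have h3 := congrArg (fun m => m.hom c) ((Scheme.Hom.comp_appTop (pullback.fst (sub V U).hom i) U.ι).symm.trans
      ((congrArg Scheme.Hom.appTop hw'.symm).trans (Scheme.Hom.comp_appTop _ _)))
    exact h3.trans (congrArg _ hc)
  by_cases hx : x ∈ V.left.basicOpen c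
  · let U := V.left.basicOpen c
    have hu : IsUnit (U.ι.appTop.hom c) := by
      refine isUnit_of_basicOpen _ ?_
      exact (Scheme.preimage_basicOpen_top U.ι c).symm.trans (Scheme.Opens.ι_preimage_self U)
    refine ⟨U, mkUnit (T := sub V U) _ hu, hx, MuLocal.val_injective ?_⟩
    exact (val_GmPush i _ _).trans (hnat U)
  · let U : V.left.Opens := ⟨(Set.range (pullback.fst V.hom i).base)ᶜ,
      (pullback.fst V.hom i).isClosedEmbedding.isClosed_range.isOpen_compl⟩
    haveI : IsEmpty ((EtCoh.bc i).obj (sub V U)).left := ⟨fun y => by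
      have hy : (pullback.fst (sub V U).hom i ≫ U.ι).base y ∈ U := ((pullback.fst (sub V U).hom i).base y).2
      have hw : ((EtCoh.bc i).map (subι V U)).left ≫ pullback.fst V.hom i =
          pullback.fst (sub V U).hom i ≫ U.ι := (EtLim.bcProj i).naturality (subι V U)
      rw [← hw] at hy
      exact hy ⟨((EtCoh.bc i).map (subι V U)).left.base y,
        (Scheme.Hom.comp_apply ((EtCoh.bc i).map (subι V U)).left (pullback.fst V.hom i) y).symm⟩⟩
    refine ⟨U, 0, fun ⟨y, hy⟩ => hx (hy ▸ hrange y), MuLocal.val_injective ?_⟩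
    have := subsingleton_sections (Z := ((EtCoh.bc i).obj (sub V U)).left) inferInstance
    exact @Subsingleton.elim _ this _ _

/-- `G_m ⟶ i_* G_m` is an epimorphism for a closed immersion `i`. -/
theorem epi_GmPush [IsClosedImmersion i] : Epi (EtLim.GmPush i) := by
  refine (Sheaf.isLocallySurjective_iff_epi' _ _).1 ⟨fun {V} s => ?_⟩
  refine (Groth.Agent.Lib.EtSite.Basic.mem_topology_iff _).2 fun x => ?_
  obtain ⟨W, hW, hxW, -⟩ := V.left.isBasis_affineOpens.exists_subset_of_mem_open (Set.mem_univ x) isOpen_univ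
  obtain ⟨W, hWa, rfl⟩ := hW
  haveI : IsAffine (sub V W).left := (hWa : IsAffineOpen W)
  let s' := ((EtCoh.push i).obj (EtCoh.Gm X)).obj.map (subι V W).op s
  obtain ⟨U, r, hxU, hr⟩ := exists_lift_unit i (sub V W) s' ⟨x, hxW⟩
  refine ⟨sub (sub V W) U, subι (sub V W) U ≫ subι V W, ⟨r, ?_⟩, ⟨⟨x, hxW⟩, hxU⟩, rfl⟩
  exact hr.trans (map_map_apply ((EtCoh.push i).obj (EtCoh.Gm X)) _ _ s)

/-- Units lift along a closed subscheme of a scheme with a point to which all points specialise. -/
theorem GmPush_app_surjective [IsClosedImmersion i] (V : Y.Etale) [IsAffine V.left] (x₀ : V.left)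
    (hx₀ : ∀ x : V.left, x ⤳ x₀) : Function.Surjective ((EtLim.GmPush i).hom.app (op V)) := by
  intro s
  obtain ⟨U, r, hxU, hr⟩ := exists_lift_unit i V s x₀
  have hU : ∀ x : V.left, x ∈ U := fun x => (hx₀ x).mem_open U.2 hxU
  have hU' : U = ⊤ := TopologicalSpace.Opens.ext (Set.eq_univ_of_forall hU)
  obtain ⟨j, hj, hj'⟩ : ∃ j : (V.left ⟶ (U : Scheme.{u})), j ≫ U.ι = 𝟙 _ ∧ (j ≫ U.ι ≫ V.hom = V.hom) := by
    subst hU'
    refine ⟨(Scheme.topIso V.left).inv, (Scheme.topIso V.left).inv_hom_id, ?_⟩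
    exact ((Category.assoc _ _ _).symm.trans (congrArg (· ≫ V.hom) (Scheme.topIso V.left).inv_hom_id)).trans
      (Category.id_comp _)
  let a : V ⟶ sub V U := MorphismProperty.Over.homMk j hj'
  have ha : a ≫ subι V U = 𝟙 V := MorphismProperty.Over.Hom.ext hj
  refine ⟨(EtCoh.Gm Y).obj.map a.op r, ?_⟩
  refine (NatTrans.naturality_apply (EtLim.GmPush i).hom a.op r).trans ?_
  refine (congrArg (((EtCoh.push i).obj (EtCoh.Gm X)).obj.map a.op) hr).trans ?_
  show ((EtCoh.push i).obj (EtCoh.Gm X)).obj.map a.op (((EtCoh.push i).obj (EtCoh.Gm X)).obj.map (subι V U).op s) = s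
  rw [map_map_apply, ha, op_id, CategoryTheory.Functor.map_id, ConcreteCategory.id_apply]

end Groth.Agent.Lib.HensGm50
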