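import Groth.Agent.Lib.EtSite.HensClosed
import Groth.Agent.Lib.EtSite.Fiber
import Mathlib.RingTheory.Ideal.GoingUp

/-!
# Sections over a finite étale local algebra and sections on the closed fibre

Restriction of sections from a finite étale local algebra over a henselian local ring to its closed
fibre is surjective.
-/

set_option autoImplicit false
set_option linter.style.haveILetI false

universe u

open CategoryTheory CategoryTheory.Limits AlgebraicGeometry Opposite

namespace Groth.Agent.Lib.HensGm50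

open Groth.Agent.Lib.EtSite Groth.Agent.Lib.EtSite.Basic Groth.Agent.Lib.EtSite.Stalk
  Groth.Agent.Lib.EtSite.PushStalk Groth.Agent.Lib.EtSite.UnitStalk Groth.Agent.Lib.EtSite.BaseChange Groth.Agent.Lib.EtSite.HensClosed

variable {A : Type u} [CommRing A]

/-- An étale algebra as an object of the small étale site. -/
noncomputable def OT (A : Type u) [CommRing A] (T : Type u) [CommRing T] [Algebra A T] [Algebra.Etale A T] :
    (Spec (CommRingCat.of A)).Etale :=
  MorphismProperty.Over.mk ⊤ (Spec.map (CommRingCat.ofHom (algebraMap A T)))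
    ((HasRingHomProperty.Spec_iff (P := @Etale)).2 (RingHom.etale_algebraMap.2 inferInstance))

variable [HenselianLocalRing A] {Z : Scheme.{u}} (i : Z ⟶ Spec (CommRingCat.of A)) [IsClosedImmersion i]
  (hi : Set.range i.base = {IsLocalRing.closedPoint A})
  (T : Type u) [CommRing T] [IsLocalRing T] [Algebra A T] [Algebra.Etale A T] [Module.Finite A T]

theorem eq_closedPoint_of_over (y : (OT A T).left) (hy : (OT A T).hom.base y = IsLocalRing.closedPoint A) :
    y = IsLocalRing.closedPoint T := by
  have hc : Ideal.comap (algebraMap A T) (y : PrimeSpectrum T).asIdeal = IsLocalRing.maximalIdeal A :=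
    congrArg PrimeSpectrum.asIdeal hy
  haveI : ((y : PrimeSpectrum T).asIdeal.comap (algebraMap A T)).IsMaximal := hc ▸ IsLocalRing.maximalIdeal.isMaximal A
  exact PrimeSpectrum.ext (IsLocalRing.eq_maximalIdeal
    (Ideal.isMaximal_of_isIntegral_of_isMaximal_comap (R := A) (y : PrimeSpectrum T).asIdeal this))

theorem closedPoint_over : (OT A T).hom.base (IsLocalRing.closedPoint T) = IsLocalRing.closedPoint A := by
  refine PrimeSpectrum.ext ?_
  exact IsLocalRing.eq_maximalIdeal
    (Ideal.isMaximal_comap_of_isIntegral_of_isMaximal (R := A) (IsLocalRing.maximalIdeal T))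

include hi in
theorem unit_surjective_of_local (F : EtCoh.Ab (Spec (CommRingCat.of A)))
    (t : EtCoh.sect ((EtCoh.pull i).obj F) ((EtCoh.bc i).obj (OT A T))) :
    ∃ s : EtCoh.sect F (OT A T), unitAt i F _ s = t := by
  obtain ⟨z, hz⟩ : IsLocalRing.closedPoint A ∈ Set.range i.base := by rw [hi]; rfl
  let ξ := Push.algPoint Z z
  have hξ : (ξ ≫ i).base default = IsLocalRing.closedPoint A := by
    rw [Scheme.Hom.comp_apply, Push.algPoint_apply, hz]
  let U0 := OT A T
  obtain ⟨p₀, hp₀⟩ := exists_fiber (ξ ≫ i) U0 (IsLocalRing.closedPoint T)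
    ((closedPoint_over T).trans hξ.symm)
  obtain ⟨zF, hzF⟩ := (unitStalk_injective i ξ F).2
    ((Scheme.pointSmallEtale ξ).toPresheafFiber _ (liftPt i rfl _ p₀) ((EtCoh.pull i).obj F).obj t)
  obtain ⟨U₁, q₁, s₁, rfl⟩ := (Scheme.pointSmallEtale (ξ ≫ i)).toPresheafFiber_jointly_surjective zF
  let Φ := Scheme.pointSmallEtale (ξ ≫ i)
  obtain ⟨w₂, a₂, b₂, -⟩ := IsCofilteredOrEmpty.cone_objs (Φ.fiber.elementsMk U₁ q₁) (Φ.fiber.elementsMk U0 p₀)
  replace hzF := (congrArg (unitStalk i ξ AddCommGrpCat.{u + 1} F)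
    ((Φ.toPresheafFiber_w_apply a₂.1 w₂.2 F.obj s₁).trans
      (congrArg (fun p => Φ.toPresheafFiber U₁ p F.obj s₁) a₂.2))).trans hzF
  let U := w₂.1
  let q : Φ.fiber.obj U := w₂.2
  let s := F.obj.map a₂.1.op s₁
  erw [unitStalk_germ] at hzF
  obtain ⟨W, a, w, hfin, haw, hw, huniq⟩ :=
    HensShrink.exists_finite_nhd U (fiberPt q) ((hom_fiberPt q).trans hξ)
  obtain ⟨qW, hqW, hqw⟩ := Fiber.exists_fiber_map (ξ ≫ i) a q w haw
  let s' := F.obj.map a.op s
  let o : W ⟶ U0 := a ≫ b₂.1
  have hoq : Φ.fiber.map o qW = p₀ := by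
    refine (FunctorToTypes.map_comp_apply Φ.fiber a b₂.1 qW).trans ?_
    rw [hqW]
    exact b₂.2
  let G := (EtCoh.pull i).obj F
  -- the only point of the closed fibre
  have hpt : ∀ x : ((EtCoh.bc i).obj W).left, x = fiberPt (liftPt i rfl W qW) := fun x => by
    have hinj := (Scheme.Hom.isClosedEmbedding (f := (pullback.fst W.hom i :
      ((EtCoh.bc i).obj W).left ⟶ W.left))).injective
    refine hinj ?_
    have hover : ∀ y : ((EtCoh.bc i).obj W).left,
        W.hom.base ((pullback.fst W.hom i).base y) = IsLocalRing.closedPoint A := fun y => by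
      have : i.base ((pullback.snd W.hom i).base y) ∈ ({IsLocalRing.closedPoint A} : Set _) :=
        hi ▸ ⟨_, rfl⟩
      rw [← Scheme.Hom.comp_apply, pullback.condition, Scheme.Hom.comp_apply]
      exact this
    exact (huniq _ (hover _)).trans (huniq _ (hover _)).symm
  have hagree : unitAt i F W s' = G.obj.map ((EtCoh.bc i).map o).op t := by
    have hgerm : (Scheme.pointSmallEtale ξ).toPresheafFiber _ (liftPt i rfl W qW) G.obj (unitAt i F W s') =
        (Scheme.pointSmallEtale ξ).toPresheafFiber _ (liftPt i rfl W qW) G.obj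
          (G.obj.map ((EtCoh.bc i).map o).op t) := by
      rw [unitAt_map]
      refine ((Scheme.pointSmallEtale ξ).toPresheafFiber_w_apply _ _ G.obj _).trans
        (Eq.trans ?_ ((Scheme.pointSmallEtale ξ).toPresheafFiber_w_apply _ _ G.obj _).symm)
      rw [map_liftPt, map_liftPt, hqW, hoq]
      exact hzF
    refine sections_ext G _ _ fun x => ?_
    obtain ⟨T', b, e, hx⟩ := (toPresheafFiber_eq_iff_mem G.obj _ _ _ _).1 hgerm
    rw [hpt x]
    exact ⟨T', b, e, hx⟩
  -- the section glues
  have hF : Presieve.IsSheaf (Spec (CommRingCat.of A)).smallEtaleTopology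
      (F.obj ⋙ forget AddCommGrpCat.{u + 1}) :=
    (isSheaf_iff_isSheaf_of_type _ _).1 ((sheafCompose _ (forget AddCommGrpCat.{u + 1})).obj F).2
  have how : o.left ≫ U0.hom = W.hom := Over.w o.hom
  haveI : IsFinite U0.hom := (IsFinite.SpecMap_iff _).2 (RingHom.finite_algebraMap.2 inferInstance)
  haveI : IsFinite o.left := by
    haveI : IsFinite (o.left ≫ U0.hom) := how.symm ▸ hfin
    exact IsFinite.of_comp o.left U0.hom
  have hsurj : ∀ x, ∃ v : W.left, o.left.base v = x := fun x => by
    by_contra hx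
    have h := closedPoint_mem_of_isClosed (A := T) (Fiber.isOpen_range_left o).isClosed_compl ⟨x, hx⟩
    refine h ⟨w, eq_closedPoint_of_over T _ ?_⟩
    rw [← Scheme.Hom.comp_apply, how]
    exact hw
  have hS : (Presieve.ofArrows (fun _ : PUnit.{1} => W) fun _ => o).IsSheafFor
      (F.obj ⋙ forget AddCommGrpCat.{u + 1}) := by
    rw [Presieve.isSheafFor_iff_generate]
    exact hF _ (ofArrows_mem (fun _ : PUnit.{1} => W) (fun _ => o) fun x => by
      obtain ⟨v, hv⟩ := hsurj x
      exact ⟨PUnit.unit, v, hv⟩)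
  -- the product of `W` with itself
  haveI : Etale o.left := Fiber.etale_left o
  haveI : Etale W.hom := W.prop
  let P : (Spec (CommRingCat.of A)).Etale :=
    MorphismProperty.Over.mk ⊤ (pullback.fst o.left o.left ≫ W.hom) (show Etale _ from inferInstance)
  have : IsFinite P.hom := inferInstanceAs (IsFinite (pullback.fst o.left o.left ≫ W.hom))
  let pr₁ : P ⟶ W := MorphismProperty.Over.homMk (pullback.fst o.left o.left) rfl
  let pr₂ : P ⟶ W := MorphismProperty.Over.homMk (pullback.snd o.left o.left) (by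
    show pullback.snd o.left o.left ≫ W.hom = pullback.fst o.left o.left ≫ W.hom
    rw [← how, ← Category.assoc, ← pullback.condition, Category.assoc])
  have hprs : pr₁ ≫ o = pr₂ ≫ o := MorphismProperty.Over.Hom.ext pullback.condition
  have hpr : F.obj.map pr₁.op s' = F.obj.map pr₂.op s' := by
    refine unit_app_injective i hi P F _ _ ?_
    have key : ∀ pr : P ⟶ W, unitAt i F P (F.obj.map pr.op s') =
        G.obj.map ((EtCoh.bc i).map (pr ≫ o)).op t := fun pr => by
      rw [unitAt_map i F pr s', hagree]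
      refine (ConcreteCategory.comp_apply _ _ _).symm.trans ?_
      exact congrArg (fun m => m t) ((G.obj.map_comp _ _).symm.trans (congrArg (fun z => G.obj.map (Quiver.Hom.op z)) ((EtCoh.bc i).map_comp pr o).symm))
    rw [key pr₁, key pr₂, hprs]
  obtain ⟨c, hc, -⟩ := (Presieve.isSheafFor_arrows_iff _ _).1 hS (fun _ => s') fun j j' T' g₁ g₂ e => by
    let l : T' ⟶ P := MorphismProperty.Over.homMk
      (pullback.lift g₁.left g₂.left (congrArg (fun m : T' ⟶ U0 => m.left) e))
      ((pullback.lift_fst_assoc _ _ _ _).trans (Over.w g₁.hom :))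
    have h₁ : g₁ = l ≫ pr₁ := MorphismProperty.Over.Hom.ext (pullback.lift_fst _ _ _).symm
    have h₂ : g₂ = l ≫ pr₂ := MorphismProperty.Over.Hom.ext (pullback.lift_snd _ _ _).symm
    rw [h₁, h₂, op_comp, op_comp, Functor.map_comp, Functor.map_comp]
    exact congrArg (F.obj.map l.op) hpr
  have hc' : F.obj.map o.op c = s' := hc PUnit.unit
  refine ⟨c, sections_ext G _ _ fun x => ⟨(EtCoh.bc i).obj W, (EtCoh.bc i).map o, ?_,
    fiberPt (liftPt i rfl W qW), ?_⟩⟩
  · rw [← unitAt_map, hc', hagree]
  · have : IsClosedImmersion (pullback.fst U0.hom i) :=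
      MorphismProperty.pullback_fst (P := @IsClosedImmersion) _ _ inferInstance
    have hinj := (@Scheme.Hom.isClosedEmbedding _ _ _ this).injective
    have hover : ∀ y : ((EtCoh.bc i).obj U0).left,
        (pullback.fst U0.hom i).base y = IsLocalRing.closedPoint T := fun y => by
      refine eq_closedPoint_of_over (A := A) T _ ?_
      have : i.base ((pullback.snd U0.hom i).base y) ∈ ({IsLocalRing.closedPoint A} : Set _) :=
        hi ▸ ⟨_, rfl⟩
      refine Eq.trans ?_ this
      exact congrArg (fun m => m.base y) (pullback.condition (f := U0.hom) (g := i))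
    exact hinj ((hover _).trans (hover _).symm)

end Groth.Agent.Lib.HensGm50
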