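import Groth.Agent.Lib.HensGm50.Epi
import Groth.Agent.Lib.HensGm50.Acyclic
import Groth.Agent.Lib.HensGm50.Algebra
import Groth.Agent.Lib.HensGm50.Surj
import Groth.Agent.Lib.EtH1Gm.Class
import Groth.Agent.Lib.EtRad.Push

/-!
# Principal units on a henselian local scheme are acyclic
-/

set_option autoImplicit false
set_option linter.style.haveILetI false

universe u

open CategoryTheory CategoryTheory.Limits CategoryTheory.Abelian AlgebraicGeometry Opposite

namespace Groth.Agent.Lib.HensGm50

open Groth.Agent.Lib.EtH1Gm.Lift Groth.Agent.Lib.EtH1Gm.Class Groth.Agent.H88 Groth.Agent.H61.FieldCoh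
open Groth.Agent.Lib.EtSite.HensClosed (unitAt unitAt_map)

/-- `H¹(T, G_m) = 0` for a local ring `T`. -/
theorem subsingleton_H1_local (T : Type u) [CommRing T] [IsLocalRing T] :
    Subsingleton (EtCoh.H (Spec (CommRingCat.of T)) (EtCoh.Gm (Spec (CommRingCat.of T))) 1) := by
  refine subsingleton_of_forall_eq 0 fun c => ?_
  obtain ⟨q, rfl⟩ := δ_surjective (seq_shortExact _) c
  refine (δ_eq_zero_iff _ _).2 ?_
  obtain ⟨W, r, hx, hr⟩ := exists_lift_at (seq_shortExact _) (Iso.refl _)
    (T₀ := EtCoh.top (Spec (CommRingCat.of T))) q (IsLocalRing.closedPoint T)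
  have hW : W = ⊤ := TopologicalSpace.Opens.ext (Set.eq_univ_of_forall fun x =>
    (IsLocalRing.specializes_closedPoint (R := T) x).mem_open W.2 hx)
  subst hW
  let a : EtCoh.top (Spec (CommRingCat.of T)) ⟶ sub (EtCoh.top (Spec (CommRingCat.of T))) ⊤ :=
    MorphismProperty.Over.homMk (Scheme.topIso (EtCoh.top (Spec (CommRingCat.of T))).left).inv
      (((Category.assoc _ _ _).symm.trans
        (congrArg (· ≫ (EtCoh.top (Spec (CommRingCat.of T))).hom) (Scheme.topIso _).inv_hom_id)).trans
          (Category.id_comp _))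
  refine ⟨(seq _).X₂.obj.map a.op r, ?_⟩
  refine (NatTrans.naturality_apply (seq _).g.hom a.op r).trans ?_
  refine (congrArg ((seq _).X₃.obj.map a.op) hr).trans ?_
  rw [map_map_apply, toTop_ext (a ≫ subι _ ⊤) (𝟙 _), op_id, CategoryTheory.Functor.map_id,
    ConcreteCategory.id_apply]

variable {R : Type u} [CommRing R] (I : Ideal R)

/-- The closed immersion `Spec R/I ⟶ Spec R`. -/
noncomputable abbrev iQ : Spec (CommRingCat.of (R ⧸ I)) ⟶ Spec (CommRingCat.of R) :=
  Spec.map (CommRingCat.ofHom (Ideal.Quotient.mk I))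

theorem isClosedImmersion_iQ : IsClosedImmersion (iQ I) :=
  IsClosedImmersion.spec_of_surjective _ Ideal.Quotient.mk_surjective

/-- The sequence of principal units. -/
noncomputable def unitSeq : ShortComplex (EtCoh.Ab (Spec (CommRingCat.of R))) :=
  ShortComplex.mk (kernel.ι (EtLim.GmPush (iQ I))) (EtLim.GmPush (iQ I)) (kernel.condition _)

theorem unitSeq_shortExact : (unitSeq I).ShortExact where
  exact := ShortComplex.exact_of_f_is_kernel _ (kernelIsKernel _)
  mono_f := inferInstanceAs (Mono (kernel.ι (EtLim.GmPush (iQ I))))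
  epi_g := haveI := isClosedImmersion_iQ I; epi_GmPush (iQ I)

/-- The sheaf of principal units. -/
noncomputable abbrev K0 : EtCoh.Ab (Spec (CommRingCat.of R)) := (unitSeq I).X₁

/-- A morphism of étale algebras as a morphism of objects. -/
noncomputable def OTHom {T T' : Type u} [CommRing T] [Algebra R T] [Algebra.Etale R T] [CommRing T']
    [Algebra R T'] [Algebra.Etale R T'] (ψ : T →ₐ[R] T') : OT R T' ⟶ OT R T :=
  MorphismProperty.Over.homMk (Spec.map (CommRingCat.ofHom ψ.toRingHom))
    (show Spec.map (CommRingCat.ofHom ψ.toRingHom) ≫ Spec.map (CommRingCat.ofHom (algebraMap R T)) =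
        Spec.map (CommRingCat.ofHom (algebraMap R T')) by
      rw [← Spec.map_comp, ← CommRingCat.ofHom_comp]
      erw [ψ.comp_algebraMap])

variable (T : Type u) [CommRing T] [Algebra R T] [Algebra.Etale R T]

/-- The unit of a section over an étale algebra. -/
noncomputable def uval (s : EtCoh.sect (EtCoh.Gm (Spec (CommRingCat.of R))) (OT R T)) : T :=
  (Scheme.ΓSpecIso (CommRingCat.of T)).hom.hom (MuLocal.val s)

theorem uval_isUnit (s : EtCoh.sect (EtCoh.Gm (Spec (CommRingCat.of R))) (OT R T)) : IsUnit (uval T s) :=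
  (Units.isUnit _).map _

theorem uval_injective : Function.Injective (uval (R := R) T) := fun s t h =>
  MuLocal.val_injective ((ConcreteCategory.bijective_of_isIso (Scheme.ΓSpecIso (CommRingCat.of T)).hom).1 h)

theorem uval_sum {ι : Type*} (S : Finset ι) (f : ι → EtCoh.sect (EtCoh.Gm (Spec (CommRingCat.of R))) (OT R T)) :
    uval T (∑ a ∈ S, f a) = ∏ a ∈ S, uval T (f a) := by
  classical
  induction S using Finset.induction_on with
  | empty => exact map_one _
  | insert a S ha ih =>
    rw [Finset.sum_insert ha, Finset.prod_insert ha, ← ih]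
    exact map_mul _ _ _

theorem uval_map {T' : Type u} [CommRing T'] [Algebra R T'] [Algebra.Etale R T'] (ψ : T →ₐ[R] T')
    (s : EtCoh.sect (EtCoh.Gm (Spec (CommRingCat.of R))) (OT R T)) :
    uval T' ((EtCoh.Gm (Spec (CommRingCat.of R))).obj.map (OTHom ψ).op s) = ψ (uval T s) :=
  ConcreteCategory.congr_hom (Scheme.ΓSpecIso_naturality (CommRingCat.ofHom ψ.toRingHom)) (MuLocal.val s)

/-- Restriction to the closed subscheme. -/
noncomputable def resT : T →+* Γ(((EtCoh.bc (iQ I)).obj (OT R T)).left, ⊤) :=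
  (res (iQ I) (OT R T)).comp (Scheme.ΓSpecIso (CommRingCat.of T)).inv.hom

theorem GmPush_eq_zero_iff (s : EtCoh.sect (EtCoh.Gm (Spec (CommRingCat.of R))) (OT R T)) :
    (EtLim.GmPush (iQ I)).hom.app (op (OT R T)) s = 0 ↔ resT I T (uval T s) = 1 := by
  have h : resT I T (uval T s) = res (iQ I) (OT R T) (MuLocal.val s) :=
    congrArg (res (iQ I) (OT R T)) (ConcreteCategory.congr_hom (Scheme.ΓSpecIso (CommRingCat.of T)).hom_inv_id _)
  rw [h]
  constructor
  · intro h0
    exact (congrArg MuLocal.val h0).trans val_zero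
  · intro h1
    exact MuLocal.val_injective ((val_GmPush (iQ I) _ s).trans (h1.trans val_zero.symm))

/-- Principal units of the henselian residue sheaf. -/
theorem mem_maximalIdeal [HenselianLocalRing R] [IsLocalRing T] [Module.Finite R T] (hI : I ≠ ⊤) (w : T)
    (hw : resT I T w = 0) : w ∈ IsLocalRing.maximalIdeal T := fun hu => by
  obtain ⟨z, hz, -⟩ := Scheme.Pullback.exists_preimage_pullback (f := (OT R T).hom) (g := iQ I)
    (IsLocalRing.closedPoint T) (⟨IsLocalRing.maximalIdeal R |>.map (Ideal.Quotient.mk I),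
      (Ideal.map_eq_top_or_isMaximal_of_surjective _ Ideal.Quotient.mk_surjective
        (IsLocalRing.maximalIdeal.isMaximal R)).resolve_left (fun h => by
          have h' := congrArg (Ideal.comap (Ideal.Quotient.mk I)) h
          rw [Ideal.comap_map_of_surjective _ Ideal.Quotient.mk_surjective, Ideal.comap_top,
            ← RingHom.ker_eq_comap_bot, Ideal.mk_ker, sup_eq_left.mpr (IsLocalRing.le_maximalIdeal hI)] at h'
          exact (IsLocalRing.maximalIdeal.isMaximal R).ne_top h') |>.isPrime⟩ : PrimeSpectrum (R ⧸ I))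
    ((closedPoint_over (A := R) T).trans (PrimeSpectrum.ext (by
      show IsLocalRing.maximalIdeal R = Ideal.comap (Ideal.Quotient.mk I) _
      rw [Ideal.comap_map_of_surjective _ Ideal.Quotient.mk_surjective, ← RingHom.ker_eq_comap_bot,
        Ideal.mk_ker, sup_eq_left.mpr (IsLocalRing.le_maximalIdeal hI)])))
  haveI : Nonempty ((EtCoh.bc (iQ I)).obj (OT R T)).left := ⟨z⟩
  haveI : Nonempty (⊤ : ((EtCoh.bc (iQ I)).obj (OT R T)).left.Opens) := ⟨⟨z, trivial⟩⟩
  haveI : Nontrivial Γ(((EtCoh.bc (iQ I)).obj (OT R T)).left, ⊤) :=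
    Scheme.component_nontrivial ((EtCoh.bc (iQ I)).obj (OT R T)).left ⊤
  exact not_isUnit_zero (hw ▸ hu.map (resT I T))

end Groth.Agent.Lib.HensGm50
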