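import Groth.Agent.Lib.HensGm50.Kernel
import Groth.Agent.Lib.EtJ.PullExact
import Groth.Agent.Lib.EtSite.Push
import Groth.Agent.S14451
import Mathlib.RingTheory.Trace.Basic

/-!
# The principal units on a henselian local scheme: restriction to the closed fibre
-/

set_option autoImplicit false
set_option linter.style.haveILetI false

universe u

open CategoryTheory CategoryTheory.Limits CategoryTheory.Abelian AlgebraicGeometry Opposite TensorProduct

namespace Groth.Agent.Lib.HensGm50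

open Groth.Agent.Lib.EtH1Gm.Lift Groth.Agent.Lib.EtH1Gm.Class Groth.Agent.H88 Groth.Agent.H61.FieldCoh
open Groth.Agent.Lib.EtSite.HensClosed (unitAt unitAt_map)
open Groth.Agent.Lib.EtJ (Basic.pullIsoRestr)

variable {R : Type u} [CommRing R] [HenselianLocalRing R] (I : Ideal R)

/-- The closed point. -/
noncomputable abbrev ι0 (R : Type u) [CommRing R] [IsLocalRing R] :
    Spec (CommRingCat.of (IsLocalRing.ResidueField R)) ⟶ Spec (CommRingCat.of R) :=
  Spec.map (CommRingCat.ofHom (IsLocalRing.residue R))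

/-- The principal units on the closed point. -/
noncomputable abbrev G0 : EtCoh.Ab (S (IsLocalRing.ResidueField R)) := (EtCoh.pull (ι0 R)).obj (K0 I)

theorem subsingleton_H1_restr (T : Type u) [CommRing T] [IsLocalRing T] [Algebra R T] [Algebra.Etale R T] :
    haveI : Etale (OT R T).hom := (OT R T).prop
    Subsingleton (EtCoh.H (Spec (CommRingCat.of T))
      ((EtShriek.restrAlong (OT R T).hom).obj (K0 I)) 1) := by
  haveI : Etale (OT R T).hom := (OT R T).prop
  haveI := isClosedImmersion_iQ I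
  let p : Spec (CommRingCat.of T) ⟶ Spec (CommRingCat.of R) := (OT R T).hom
  haveI : Etale p := (OT R T).prop
  haveI : PreservesFiniteLimits (EtShriek.restrAlong p) :=
    preservesFiniteLimits_of_natIso (Groth.Agent.Lib.EtJ.Basic.pullIsoRestr p)
  have hS := (unitSeq_shortExact I).map_of_exact (EtShriek.restrAlong p)
  suffices h : ∀ x : EtCoh.H (Spec (CommRingCat.of T)) ((EtShriek.restrAlong p).obj (K0 I)) 1, x = 0 from
    ⟨fun a b => (h a).trans (h b).symm⟩
  intro x
  let e : (EtShriek.restrAlong p).obj (EtCoh.Gm (Spec (CommRingCat.of R))) ≅ EtCoh.Gm (Spec (CommRingCat.of T)) :=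
    (sheafToPresheaf _ _).preimageIso (NatIso.ofComponents (fun V => Iso.refl _) (fun g => by rfl))
  haveI : Subsingleton ↑((EtCoh.HF (Spec (CommRingCat.of T)) 1).obj (EtCoh.Gm (Spec (CommRingCat.of T)))) :=
    subsingleton_H1_local T
  haveI : Subsingleton (EtCoh.H (Spec (CommRingCat.of T))
      ((EtShriek.restrAlong p).obj (EtCoh.Gm (Spec (CommRingCat.of R)))) 1) :=
    Equiv.subsingleton (((EtCoh.HF (Spec (CommRingCat.of T)) 1).mapIso e).addCommGroupIsoToAddEquiv.toEquiv)
  obtain ⟨z, rfl⟩ := Ext.covariant_sequence_exact₁ _ hS x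
    (Subsingleton.elim (α := EtCoh.H (Spec (CommRingCat.of T))
      ((EtShriek.restrAlong p).obj (EtCoh.Gm (Spec (CommRingCat.of R)))) 1) _ _) (n₀ := 0) rfl
  obtain ⟨f, rfl⟩ := (Ext.mk₀_bijective _ _).2 z
  let V : (Spec (CommRingCat.of R)).Etale := (EtShriek.compEtale p).obj (EtCoh.top (Spec (CommRingCat.of T)))
  haveI : IsAffine V.left := inferInstanceAs (IsAffine (Spec (CommRingCat.of T)))
  obtain ⟨t, ht⟩ := GmPush_app_surjective (iQ I) V (IsLocalRing.closedPoint T)
    (fun y => IsLocalRing.specializes_closedPoint (R := T) y) (Groth.Agent.Lib.EtJ.PullSec.elem _ _ f)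
  let t' : EtCoh.sect ((unitSeq I).map (EtShriek.restrAlong p)).X₂ (EtCoh.top (Spec (CommRingCat.of T))) := t
  have hf : f = (Groth.Agent.Lib.EtJ.PullSec.elem _ _).symm t' ≫ ((unitSeq I).map (EtShriek.restrAlong p)).g := by
    apply (Groth.Agent.Lib.EtJ.PullSec.elem _ _).injective
    rw [Groth.Agent.Lib.EtJ.PullSec.elem_comp, AddEquiv.apply_symm_apply]
    exact ht.symm
  rw [hf, ← Ext.mk₀_comp_mk₀, Ext.comp_assoc_of_second_deg_zero]
  exact (congrArg (fun w => Ext.comp _ w (zero_add 1)) hS.comp_extClass).trans (Ext.comp_zero ..)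

section Fibre

variable (T : Type u) [CommRing T] [Algebra R T] [Algebra.Etale R T]
  (E : Type u) [Field E] [Algebra (IsLocalRing.ResidueField R) E] [Algebra.Etale (IsLocalRing.ResidueField R) E]
  (π : T →+* E)
  (hπc : π.comp (algebraMap R T) = (algebraMap (IsLocalRing.ResidueField R) E).comp (IsLocalRing.residue R))

include hπc in
theorem sq : Spec.map (CommRingCat.ofHom π) ≫ (OT R T).hom =
    (𝟙 _ ≫ jF (IsLocalRing.ResidueField R) E) ≫ ι0 R := by
  show Spec.map _ ≫ Spec.map _ = _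
  rw [Category.id_comp, ← Spec.map_comp, ← Spec.map_comp, ← CommRingCat.ofHom_comp, ← CommRingCat.ofHom_comp,
    hπc]

/-- `Spec E` as the closed fibre of `Spec T`. -/
noncomputable def jE : O (IsLocalRing.ResidueField R) E ⟶ (EtCoh.bc (ι0 R)).obj (OT R T) :=
  MorphismProperty.Over.homMk
    (pullback.lift (Spec.map (CommRingCat.ofHom π)) (𝟙 _ ≫ jF (IsLocalRing.ResidueField R) E) (sq T E π hπc))
    (pullback.lift_snd _ _ _)

theorem jE_natural {T' : Type u} [CommRing T'] [Algebra R T'] [Algebra.Etale R T'] {E' : Type u} [Field E']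
    [Algebra (IsLocalRing.ResidueField R) E'] [Algebra.Etale (IsLocalRing.ResidueField R) E'] (π' : T' →+* E')
    (hπc' : π'.comp (algebraMap R T') = (algebraMap (IsLocalRing.ResidueField R) E').comp (IsLocalRing.residue R))
    (φ : E →ₐ[IsLocalRing.ResidueField R] E') (ψ : T →ₐ[R] T')
    (h : π'.comp ψ.toRingHom = φ.toRingHom.comp π) :
    jE T' E' π' hπc' ≫ (EtCoh.bc (ι0 R)).map (OTHom ψ) = homO φ ≫ jE T E π hπc := by
  refine MorphismProperty.Over.Hom.ext (pullback.hom_ext ?_ ?_)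
  · show ((jE T' E' π' hπc').left ≫ ((EtCoh.bc (ι0 R)).map (OTHom ψ)).left) ≫ pullback.fst _ _ =
      (Spec.map (CommRingCat.ofHom φ.toRingHom) ≫ (jE T E π hπc).left) ≫ pullback.fst _ _
    refine (Category.assoc _ _ _).trans ((congrArg ((jE T' E' π' hπc').left ≫ ·)
      (EtCoh.isPullback_bc_map (ι0 R) (OTHom ψ)).w).trans ?_)
    refine (Category.assoc _ _ _).symm.trans ((congrArg (· ≫ (OTHom ψ).left) (pullback.lift_fst _ _ _)).trans ?_)
    refine Eq.trans ?_ ((Category.assoc _ _ _).trans (congrArg (Spec.map _ ≫ ·) (pullback.lift_fst _ _ _))).symm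
    show Spec.map _ ≫ Spec.map _ = Spec.map _ ≫ Spec.map _
    rw [← Spec.map_comp, ← Spec.map_comp, ← CommRingCat.ofHom_comp, ← CommRingCat.ofHom_comp, h]
  · show ((jE T' E' π' hπc').left ≫ ((EtCoh.bc (ι0 R)).map (OTHom ψ)).left) ≫ pullback.snd _ _ =
      (Spec.map (CommRingCat.ofHom φ.toRingHom) ≫ (jE T E π hπc).left) ≫ pullback.snd _ _
    refine (Category.assoc _ _ _).trans ((congrArg ((jE T' E' π' hπc').left ≫ ·)
      (MorphismProperty.Over.w ((EtCoh.bc (ι0 R)).map (OTHom ψ)))).trans ?_)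
    refine (pullback.lift_snd _ _ _).trans ?_
    refine Eq.trans ?_ ((Category.assoc _ _ _).trans (congrArg (Spec.map _ ≫ ·) (pullback.lift_snd _ _ _))).symm
    exact (MorphismProperty.Over.w (homO φ)).symm

include hπc in
theorem isIso_jE (hπ : Function.Surjective π) (hmax : (IsLocalRing.maximalIdeal R).map (algebraMap R T) = RingHom.ker π) :
    IsIso (jE T E π hπc) := by
  letI : Algebra R E := ((algebraMap (IsLocalRing.ResidueField R) E).comp (IsLocalRing.residue R)).toAlgebra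
  haveI : IsScalarTower R (IsLocalRing.ResidueField R) E := IsScalarTower.of_algebraMap_eq fun x => rfl
  let πA : T →ₐ[R] E := { π with commutes' := fun r => RingHom.congr_fun hπc r }
  let L : T ⊗[R] IsLocalRing.ResidueField R →ₐ[R] E :=
    Algebra.TensorProduct.lift πA (IsScalarTower.toAlgHom R (IsLocalRing.ResidueField R) E) fun _ _ => Commute.all _ _
  have hone : ∀ x : T ⊗[R] IsLocalRing.ResidueField R, ∃ t : T, x = t ⊗ₜ[R] 1 := by
    intro x
    induction x using TensorProduct.induction_on with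
    | zero => exact ⟨0, (zero_tmul T (1 : IsLocalRing.ResidueField R)).symm⟩
    | tmul t c =>
      obtain ⟨r, rfl⟩ := IsLocalRing.residue_surjective c
      refine ⟨r • t, ?_⟩
      rw [smul_tmul, Algebra.smul_def, mul_one]
      rfl
    | add x y hx hy =>
      obtain ⟨a, rfl⟩ := hx
      obtain ⟨b, rfl⟩ := hy
      exact ⟨a + b, (add_tmul a b 1).symm⟩
  have hLt : ∀ t : T, L (t ⊗ₜ[R] 1) = π t := fun t => by simp [L, πA]
  have hL : Function.Bijective L := by
    refine ⟨(injective_iff_map_eq_zero L).2 fun x hx => ?_, fun e => ?_⟩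
    · obtain ⟨t, rfl⟩ := hone x
      have ht : t ∈ (IsLocalRing.maximalIdeal R).map (algebraMap R T) := hmax ▸ (hLt t).symm.trans hx
      have h0 : ∀ r ∈ IsLocalRing.maximalIdeal R,
          (Algebra.TensorProduct.includeLeft : T →ₐ[R] T ⊗[R] IsLocalRing.ResidueField R) (algebraMap R T r) = 0 := by
        intro r hr
        show (algebraMap R T r) ⊗ₜ[R] (1 : IsLocalRing.ResidueField R) = 0
        rw [Algebra.algebraMap_eq_smul_one, smul_tmul, Algebra.smul_def, mul_one,
          show algebraMap R (IsLocalRing.ResidueField R) r = IsLocalRing.residue R r from rfl,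
          (IsLocalRing.residue_eq_zero_iff r).2 hr, tmul_zero]
      exact (Ideal.map_le_iff_le_comap.2 (fun r hr => h0 r hr) :
        (IsLocalRing.maximalIdeal R).map (algebraMap R T) ≤ RingHom.ker
          (Algebra.TensorProduct.includeLeft : T →ₐ[R] T ⊗[R] IsLocalRing.ResidueField R).toRingHom) ht
    · obtain ⟨t, rfl⟩ := hπ e
      exact ⟨t ⊗ₜ 1, hLt t⟩
  let iso := pullbackSpecIso R T (IsLocalRing.ResidueField R)
  haveI : IsIso (CommRingCat.ofHom L.toRingHom) := (ConcreteCategory.isIso_iff_bijective _).2 hL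
  have h : (jE T E π hπc).left = Spec.map (CommRingCat.ofHom L.toRingHom) ≫ iso.inv := by
    refine pullback.hom_ext ?_ ?_
    · refine (pullback.lift_fst _ _ _).trans ?_
      refine Eq.trans ?_ ((Category.assoc _ _ _).trans (congrArg (Spec.map _ ≫ ·) (pullbackSpecIso_inv_fst R T _))).symm
      rw [← Spec.map_comp, ← CommRingCat.ofHom_comp]
      exact congrArg (fun g => Spec.map (CommRingCat.ofHom g)) (RingHom.ext fun t => (hLt t).symm)
    · refine (pullback.lift_snd _ _ _).trans ?_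
      refine Eq.trans ?_ ((Category.assoc _ _ _).trans (congrArg (Spec.map _ ≫ ·) (pullbackSpecIso_inv_snd R T _))).symm
      refine (Category.id_comp _).trans ?_
      rw [← Spec.map_comp, ← CommRingCat.ofHom_comp]
      refine congrArg (fun g => Spec.map (CommRingCat.ofHom g)) (RingHom.ext fun c => ?_)
      show algebraMap _ E c = L (1 ⊗ₜ c)
      simp [L]
  have hiL : IsIso (CommRingCat.ofHom L.toRingHom) := (ConcreteCategory.isIso_iff_bijective _).2 hL
  have hsp : IsIso (Spec.map (CommRingCat.ofHom L.toRingHom)) :=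
    ⟨Spec.map (@inv _ _ _ _ (CommRingCat.ofHom L.toRingHom) hiL), by
      rw [← Spec.map_comp, IsIso.inv_hom_id, Spec.map_id], by
      rw [← Spec.map_comp, IsIso.hom_inv_id, Spec.map_id]⟩
  haveI : IsIso (jE T E π hπc).left := by
    rw [h]
    exact @IsIso.comp_isIso _ _ _ _ _ _ _ hsp ⟨iso.hom, iso.inv_hom_id, iso.hom_inv_id⟩
  exact isIso_of_left _

/-- Restriction of principal units to the closed fibre. -/
noncomputable def Φ : EtCoh.sect (K0 I) (OT R T) →+ EtCoh.sect (G0 I) (O (IsLocalRing.ResidueField R) E) :=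
  (((G0 I).obj.map (jE T E π hπc).op).hom).comp
    ((((EtCoh.pullPushAdj (ι0 R)).unit.app (K0 I)).hom.app (op (OT R T))).hom)

theorem Φ_natural {T' : Type u} [CommRing T'] [Algebra R T'] [Algebra.Etale R T'] {E' : Type u} [Field E']
    [Algebra (IsLocalRing.ResidueField R) E'] [Algebra.Etale (IsLocalRing.ResidueField R) E'] (π' : T' →+* E')
    (hπc' : π'.comp (algebraMap R T') = (algebraMap (IsLocalRing.ResidueField R) E').comp (IsLocalRing.residue R))
    (φ : E →ₐ[IsLocalRing.ResidueField R] E') (ψ : T →ₐ[R] T')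
    (h : π'.comp ψ.toRingHom = φ.toRingHom.comp π) (s : EtCoh.sect (K0 I) (OT R T)) :
    Φ I T' E' π' hπc' ((K0 I).obj.map (OTHom ψ).op s) = (G0 I).obj.map (homO φ).op (Φ I T E π hπc s) := by
  show (G0 I).obj.map (jE T' E' π' hπc').op (unitAt (ι0 R) (K0 I) _ ((K0 I).obj.map (OTHom ψ).op s)) =
    (G0 I).obj.map (homO φ).op ((G0 I).obj.map (jE T E π hπc).op (unitAt (ι0 R) (K0 I) _ s))
  refine (congrArg ((G0 I).obj.map (jE T' E' π' hπc').op) (unitAt_map _ _ (OTHom ψ) s)).trans ?_
  refine (map_map (G0 I) _ _ _).trans (Eq.trans ?_ (map_map (G0 I) _ _ _).symm)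
  rw [jE_natural T E π hπc π' hπc' φ ψ h]

theorem Φ_surjective [IsLocalRing T] [Module.Finite R T] (hπ : Function.Surjective π)
    (hmax : (IsLocalRing.maximalIdeal R).map (algebraMap R T) = RingHom.ker π) :
    Function.Surjective (Φ I T E π hπc) := fun t => by
  haveI : IsClosedImmersion (ι0 R) := IsClosedImmersion.spec_of_surjective _ IsLocalRing.residue_surjective
  haveI := isIso_jE T E π hπc hπ hmax
  obtain ⟨t', ht'⟩ := (ConcreteCategory.bijective_of_isIso ((G0 I).obj.map (jE T E π hπc).op)).2 t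
  obtain ⟨s, hs⟩ := unit_surjective_of_local (ι0 R) Groth.Agent.Lib.EtSite.HensClosed.range_closedPoint T (K0 I) t'
  exact ⟨s, (congrArg ((G0 I).obj.map (jE T E π hπc).op) hs).trans ht'⟩

end Fibre

theorem h1Good : H1Good (G0 I) := by
  intro E _ _ _ hf
  haveI := hf
  haveI := Algebra.FormallyUnramified.isSeparable (IsLocalRing.ResidueField R) E
  obtain ⟨T, _, _, _, _, _, π, hπ, -, hπc, -⟩ := exists_lift R E
  let ρ : IsLocalRing.ResidueField T →+* E := Ideal.Quotient.lift (IsLocalRing.maximalIdeal T) π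
    fun a ha => RingHom.mem_ker.1 ((isLocalRing_ker π hπ).symm ▸ ha)
  have hρ : Function.Bijective ρ := ⟨ρ.injective, fun e => by
    obtain ⟨t, rfl⟩ := hπ e
    exact ⟨IsLocalRing.residue T t, rfl⟩⟩
  let r : S E ⟶ Spec (CommRingCat.of (IsLocalRing.ResidueField T)) := Spec.map (CommRingCat.ofHom ρ)
  haveI : IsIso (CommRingCat.ofHom ρ) := (ConcreteCategory.isIso_iff_bijective _).2 hρ
  haveI : IsIso r := inferInstanceAs (IsIso (Spec.map (CommRingCat.ofHom ρ)))
  let ιT := Spec.map (CommRingCat.ofHom (IsLocalRing.residue T))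
  let p : Spec (CommRingCat.of T) ⟶ Spec (CommRingCat.of R) := (OT R T).hom
  haveI : Etale p := (OT R T).prop
  have hsq : jF (IsLocalRing.ResidueField R) E ≫ ι0 R = r ≫ ιT ≫ p := by
    show Spec.map _ ≫ Spec.map _ = Spec.map _ ≫ Spec.map _ ≫ Spec.map _
    rw [← Spec.map_comp, ← Spec.map_comp, ← Spec.map_comp, ← CommRingCat.ofHom_comp,
      ← CommRingCat.ofHom_comp, ← CommRingCat.ofHom_comp, ← hπc]
    rfl
  let N := (EtCoh.pull p).obj (K0 I)
  haveI h1 : Subsingleton (EtCoh.H (Spec (CommRingCat.of T)) N 1) := by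
    haveI : Subsingleton ↑((EtCoh.HF (Spec (CommRingCat.of T)) 1).obj ((EtShriek.restrAlong p).obj (K0 I))) :=
      subsingleton_H1_restr I T
    exact Equiv.subsingleton (((EtCoh.HF (Spec (CommRingCat.of T)) 1).mapIso
      ((Groth.Agent.Lib.EtJ.Basic.pullIsoRestr p).app (K0 I))).addCommGroupIsoToAddEquiv.toEquiv)
  haveI h2 : Subsingleton (EtCoh.H _ ((EtCoh.pull ιT).obj N) 1) :=
    (Groth.Agent.Lib.EtSite.HensClosed.Hpull_bijective N 1).2.subsingleton
  haveI h3 : Subsingleton ↑((EtCoh.HF (S E) 1).obj ((EtCoh.pull r).obj ((EtCoh.pull ιT).obj N))) :=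
    (Groth.Agent.Lib.EtRad.Push.Hpull_bijective r ((EtCoh.pull ιT).obj N) 1).2.subsingleton
  let e : (EtShriek.restrAlong (jF (IsLocalRing.ResidueField R) E)).obj (G0 I) ≅
      (EtCoh.pull r).obj ((EtCoh.pull ιT).obj N) :=
    ((Groth.Agent.Lib.EtJ.Basic.pullIsoRestr (jF (IsLocalRing.ResidueField R) E)).app (G0 I)).symm ≪≫
      ((EtCore.pullComp (jF (IsLocalRing.ResidueField R) E) (ι0 R)).app (K0 I)).symm ≪≫
        (EtCore.pullCongr hsq).app (K0 I) ≪≫ (EtCore.pullComp r (ιT ≫ p)).app (K0 I) ≪≫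
          (EtCoh.pull r).mapIso ((EtCore.pullComp ιT p).app (K0 I))
  exact Equiv.subsingleton (((EtCoh.HF (S E) 1).mapIso e).addCommGroupIsoToAddEquiv.toEquiv)

theorem normGood (hI : I ≠ ⊤) : NormGood (G0 I) := by
  intro E M _ _ _ _ _ _ _ _ _ _ _ _ s
  let κ := IsLocalRing.ResidueField R
  haveI : FiniteDimensional κ M := Module.Finite.trans E M
  haveI := Algebra.FormallyUnramified.isSeparable κ E
  haveI := Algebra.FormallyUnramified.isSeparable κ M
  obtain ⟨TE, _, _, _, _, _, πE, hπE, hmE, hcE, huE⟩ := exists_lift R E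
  obtain ⟨TM, _, _, _, _, _, πM, hπM, hmM, hcM, huM⟩ := exists_lift R M
  obtain ⟨a, rfl⟩ := Φ_surjective I TE E πE hcE hπE (hmE.trans (isLocalRing_ker πE hπE).symm) s
  let φ : E →ₐ[κ] M := IsScalarTower.toAlgHom κ E M
  obtain ⟨ψ, hψ, -⟩ := huE TM M πM hπM φ.toRingHom (hcM.trans (RingHom.ext fun r => (φ.commutes _).symm))
  have hτ : ∀ τ : M ≃ₐ[E] M, ∃! g : TM →ₐ[R] TM,
      πM.comp g.toRingHom = (τ.toAlgHom.restrictScalars κ).toRingHom.comp πM := fun τ =>
    huM TM M πM hπM _ (hcM.trans (RingHom.ext fun r => ((τ.toAlgHom.restrictScalars κ).commutes _).symm))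
  choose act hact hactu using hτ
  have hactp : ∀ τ x, πM (act τ x) = τ (πM x) := fun τ x => RingHom.congr_fun (hact τ) x
  have hmul : ∀ (σ τ : M ≃ₐ[E] M) (x : TM), act (σ * τ) x = act σ (act τ x) := fun σ τ x => by
    have h : act (σ * τ) = (act σ).comp (act τ) := (hactu (σ * τ) _ (RingHom.ext fun y => by
      show πM (act σ (act τ y)) = (σ * τ) (πM y)
      rw [hactp, hactp]
      rfl)).symm
    rw [h]
    rfl
  have hone : ∀ x : TM, act 1 x = x := fun x => by
    rw [← hactu 1 (AlgHom.id R TM) (RingHom.ext fun y => rfl)]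
    rfl
  have hinvψ : ∀ τ x, act τ (ψ x) = ψ x := fun τ x => by
    obtain ⟨g, -, hg⟩ := huE TM M πM hπM φ.toRingHom (hcM.trans (RingHom.ext fun r => (φ.commutes _).symm))
    have h1 := hg ((act τ).comp ψ) (RingHom.ext fun y => by
      show πM (act τ (ψ y)) = φ (πE y)
      rw [hactp, show πM (ψ y) = φ (πE y) from RingHom.congr_fun hψ y]
      exact τ.commutes (πE y))
    exact (AlgHom.congr_fun h1 x).trans (AlgHom.congr_fun (hg ψ hψ) x).symm
  let fι := (unitSeq I).f
  let GmR := EtCoh.Gm (Spec (CommRingCat.of R))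
  let u : TE := uval TE (fι.hom.app (op (OT R TE)) a)
  have hker : ∀ {T : Type u} [CommRing T] [Algebra R T] [Algebra.Etale R T] (b : EtCoh.sect (K0 I) (OT R T)),
      resT I T (uval T (fι.hom.app (op (OT R T)) b)) = 1 := fun {T} _ _ _ b => by
    refine (GmPush_eq_zero_iff I T _).1 ?_
    exact ConcreteCategory.congr_hom (congrArg (fun m => m.hom.app (op (OT R T))) (unitSeq I).zero) b
  let w : TM := ψ u - 1
  have hw0 : resT I TM w = 0 := by
    have h := hker ((K0 I).obj.map (OTHom ψ).op a)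
    rw [NatTrans.naturality_apply fι.hom (OTHom ψ).op a] at h
    erw [uval_map] at h
    rw [map_sub, map_one, sub_eq_zero]
    exact h
  have hwm := mem_maximalIdeal I TM hI w hw0
  obtain ⟨x₁, hx₁⟩ := Algebra.trace_surjective E M 1
  obtain ⟨θ₁, rfl⟩ := hπM x₁
  let s₁ := ∑ τ, act τ θ₁
  have hs₁ : πM s₁ = 1 := by
    rw [map_sum]
    simp only [hactp]
    rw [← trace_eq_sum_automorphisms, hx₁, map_one]
  have hs₁u : IsUnit s₁ := by
    by_contra h
    have h' : s₁ ∈ RingHom.ker πM := (isLocalRing_ker πM hπM).symm ▸ (show s₁ ∈ IsLocalRing.maximalIdeal TM from h)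
    rw [RingHom.mem_ker, hs₁] at h'
    exact one_ne_zero h'
  obtain ⟨v₁, hv₁⟩ := hs₁u
  have hs₁inv : ∀ σ, act σ (↑v₁⁻¹ : TM) = ↑v₁⁻¹ := fun σ => by
    have h : act σ s₁ = s₁ := by
      show act σ (∑ τ, act τ θ₁) = _
      rw [map_sum]
      simp only [← hmul]
      exact Fintype.sum_equiv (Equiv.mulLeft σ) _ _ fun τ => rfl
    refine v₁.eq_inv_of_mul_eq_one_left ?_
    rw [hv₁, ← h, ← map_mul, ← hv₁, Units.mul_inv, map_one]
  obtain ⟨y, hy⟩ := exists_prod_eq_one_add (T := TM) (fun τ => (act τ).toRingHom) hmul (θ₁ * ↑v₁⁻¹)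
    (by
      show ∑ τ, act τ (θ₁ * ↑v₁⁻¹) = 1
      simp only [map_mul, hs₁inv]
      rw [← Finset.sum_mul, show ∑ τ, act τ θ₁ = ↑v₁ from hv₁.symm, Units.mul_inv])
    w hwm (fun τ => by
      show act τ (ψ u - 1) = ψ u - 1
      rw [map_sub, map_one, hinvψ]) hone
  have hvu : IsUnit (1 + w * y) := by
    by_contra h
    have h' := (IsLocalRing.maximalIdeal TM).sub_mem (show 1 + w * y ∈ IsLocalRing.maximalIdeal TM from h)
      (Ideal.mul_mem_right y _ hwm)
    rw [add_sub_cancel_right] at h'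
    exact (IsLocalRing.maximalIdeal.isMaximal TM).ne_top ((Ideal.eq_top_iff_one _).2 h')
  let b' : EtCoh.sect GmR (OT R TM) :=
    mkUnit (T := OT R TM) _ (hvu.map (Scheme.ΓSpecIso (CommRingCat.of TM)).inv.hom)
  have hb' : uval TM b' = 1 + w * y :=
    ConcreteCategory.congr_hom (Scheme.ΓSpecIso (CommRingCat.of TM)).inv_hom_id _
  obtain ⟨b, hb⟩ := exists_eq_app (unitSeq_shortExact I) (OT R TM) b' ((GmPush_eq_zero_iff I TM b').2 (by
    rw [hb', map_add, map_mul, hw0, zero_mul, add_zero, map_one]))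
  refine ⟨Φ I TM M πM hcM b, ?_⟩
  have key : ∑ τ : M ≃ₐ[E] M, (K0 I).obj.map (OTHom (act τ)).op b = (K0 I).obj.map (OTHom ψ).op a := by
    apply injective_app (unitSeq_shortExact I) (OT R TM)
    apply uval_injective (R := R) TM
    have hv : ∀ τ, uval TM (fι.hom.app (op (OT R TM)) ((K0 I).obj.map (OTHom (act τ)).op b)) = act τ (1 + w * y) :=
      fun τ => (congrArg (uval TM) (NatTrans.naturality_apply fι.hom (OTHom (act τ)).op b)).trans
        ((uval_map _ (act τ) _).trans (congrArg (act τ) ((congrArg (uval TM) hb).trans hb')))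
    refine ((congrArg (uval TM) (map_sum (fι.hom.app (op (OT R TM))).hom _ _)).trans (uval_sum TM _ _)).trans ?_
    refine ((Finset.prod_congr rfl fun τ _ => hv τ).trans (hy.trans ?_)).trans
      ((congrArg (uval TM) (NatTrans.naturality_apply fι.hom (OTHom ψ).op a)).trans (uval_map _ ψ _)).symm
    exact add_sub_cancel 1 (ψ u)
  have h := congrArg (Φ I TM M πM hcM) key
  rw [map_sum, Φ_natural I TE E πE hcE πM hcM φ ψ hψ] at h
  refine Eq.trans (Finset.sum_congr rfl fun τ _ => ?_) h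
  exact (Φ_natural I TM M πM hcM πM hcM (τ.toAlgHom.restrictScalars κ) (act τ) (hact τ) b).symm

theorem subsingleton_H_K0 (hI : I ≠ ⊤) (n : ℕ) :
    Subsingleton (EtCoh.H (Spec (CommRingCat.of R)) (K0 I) (n + 1)) := by
  haveI : Subsingleton (EtCoh.H _ (G0 I) (n + 1)) := vanish n _ (G0 I) (h1Good I) (normGood I hI)
  exact (Groth.Agent.Lib.EtSite.HensClosed.Hpull_bijective (K0 I) (n + 1)).1.subsingleton

theorem HGmPull_bijective (hI : I ≠ ⊤) [PreservesFiniteLimits (EtCoh.pull (iQ I))] (n : ℕ) :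
    Function.Bijective (EtLim.HGmPull (iQ I) (n + 1)) := by
  haveI := isClosedImmersion_iQ I
  refine (S14451.result (iQ I) _ (fun q hq => Groth.Agent.Lib.EtSite.Push.isZero_Rpush (iQ I) _ q hq) (n + 1)).comp ?_
  have hS := unitSeq_shortExact I
  haveI := subsingleton_H_K0 I hI n
  haveI := subsingleton_H_K0 I hI (n + 1)
  refine ⟨(injective_iff_map_eq_zero _).2 fun x hx => ?_, fun z => ?_⟩
  · obtain ⟨y, rfl⟩ := Ext.covariant_sequence_exact₂ _ hS x hx
    rw [Subsingleton.elim (α := EtCoh.H _ (K0 I) (n + 1)) y 0]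
    exact Ext.zero_comp ..
  · obtain ⟨x, hx⟩ := Ext.covariant_sequence_exact₃ _ hS z (n₁ := n + 1 + 1) rfl
      (Subsingleton.elim (α := EtCoh.H _ (K0 I) (n + 1 + 1)) _ _)
    exact ⟨x, hx⟩

end Groth.Agent.Lib.HensGm50
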